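import Groth.Agent.CAlgOdd.NagataFT.Global
import Groth.Agent.S4562

/-!
# Polynomial rings over Nagata rings
-/

set_option autoImplicit false
set_option linter.style.haveILetI false

namespace Groth.Agent.CAlgOdd.NagataFT

universe u

open Polynomial

set_option maxHeartbeats 1000000 in
/-- The closure of `A[X]` in a purely inseparable extension is finite. -/
theorem finite_integralClosure_polynomial (A : Type u) [CommRing A] [IsDomain A] [IsNoetherianRing A]
    (hA : CAlg.IsN2 A)
    (K' : Type u) [Field K'] [Algebra A[X] K'] [Algebra (FractionRing A[X]) K']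
    [IsScalarTower A[X] (FractionRing A[X]) K'] [FiniteDimensional (FractionRing A[X]) K']
    [IsPurelyInseparable (FractionRing A[X]) K'] :
    Module.Finite A[X] (integralClosure A[X] K') := by
  classical
  let K := FractionRing A[X]
  let k := FractionRing A
  obtain ⟨p, hp⟩ := ExpChar.exists A
  haveI : ExpChar k p := expChar_of_injective_ringHom (IsFractionRing.injective A k) p
  haveI : ExpChar A[X] p := expChar_of_injective_ringHom (C_injective (R := A)) p
  haveI : ExpChar K p := expChar_of_injective_ringHom (IsFractionRing.injective A[X] K) p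
  haveI : ExpChar K' p := expChar_of_injective_ringHom (algebraMap K K').injective p
  obtain ⟨s, hs⟩ := IntermediateField.fg_top K K'
  choose e he using fun y : s => IsPurelyInseparable.pow_mem K p (y : K')
  let N := Finset.univ.sup e
  have hmem : ∀ y : s, ∃ a b : A[X], b ≠ 0 ∧
      (y : K') ^ p ^ N = algebraMap K K' (algebraMap _ K a / algebraMap _ K b) := by
    intro y
    obtain ⟨c, hc⟩ := he y
    have hle : e y ≤ N := Finset.le_sup (Finset.mem_univ y)
    obtain ⟨a, b, hb, hab⟩ := IsFractionRing.div_surjective (A := A[X]) (c ^ p ^ (N - e y))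
    refine ⟨a, b, nonZeroDivisors.ne_zero hb, ?_⟩
    rw [hab, map_pow, hc, ← pow_mul, ← pow_add, Nat.add_sub_cancel' hle]
  choose num den hden hy using hmem
  -- the finitely many coefficients
  let Ω₀ := AlgebraicClosure k
  let S : Finset A := Finset.univ.biUnion fun y : s =>
    (num y).support.image (num y).coeff ∪ (den y).support.image (den y).coeff
  have hq : 0 < p ^ N := pow_pos (expChar_pos A p) N
  choose root hroot using fun a : A => IsAlgClosed.exists_pow_nat_eq (algebraMap A Ω₀ a) hq
  let k' : IntermediateField k Ω₀ := IntermediateField.adjoin k ↑(S.image root)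
  haveI : FiniteDimensional k k' := IntermediateField.finiteDimensional_adjoin
    fun x _ => Algebra.IsIntegral.isIntegral x
  let A' := integralClosure A k'
  haveI : Module.Finite A A' := N12Aux.finite_of_isN2 hA k k'
  haveI : IsIntegrallyClosed A' := integralClosure.isIntegrallyClosedOfFiniteExtension k
  haveI : IsNoetherianRing A' := IsNoetherianRing.of_finite A A'
  have hAA' : Function.Injective (algebraMap A A') := fun a b h => IsFractionRing.injective A k
    ((algebraMap k k').injective (by
      rw [← IsScalarTower.algebraMap_apply, ← IsScalarTower.algebraMap_apply]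
      exact congrArg Subtype.val h))
  haveI : ExpChar A' p := expChar_of_injective_ringHom hAA' p
  haveI : ExpChar A'[X] p := expChar_of_injective_ringHom (C_injective (R := A')) p
  have hrootA' : ∀ a ∈ S, ∃ r : A', r ^ p ^ N = algebraMap A A' a := by
    intro a ha
    let r : k' := ⟨root a, IntermediateField.subset_adjoin k _ (Finset.mem_coe.2 (Finset.mem_image_of_mem _ ha))⟩
    have hr : r ^ p ^ N = algebraMap A k' a := Subtype.ext (hroot a)
    exact ⟨⟨r, IsIntegral.of_pow hq (hr ▸ isIntegral_algebraMap)⟩, Subtype.ext hr⟩
  let φ : A[X] →+* A'[X] := (expand A' (p ^ N)).toRingHom.comp (mapRingHom (algebraMap A A'))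
  have hφ : Function.Injective φ := (expand_injective hq).comp (map_injective _ hAA')
  have hrootmem : ∀ f : A[X], (∀ d ∈ f.support, f.coeff d ∈ S) → ∃ f' : A'[X], f' ^ p ^ N = φ f := by
    intro f hf
    choose r hr using fun d : {d // d ∈ f.support} => hrootA' (f.coeff d.1) (hf d.1 d.2)
    refine ⟨∑ d ∈ f.support.attach, monomial d.1 (r d), ?_⟩
    rw [sum_pow_char_pow]
    conv_rhs => rw [f.as_sum_support, ← Finset.sum_attach, map_sum]
    refine Finset.sum_congr rfl fun d _ => ?_
    show _ = expand A' (p ^ N) ((monomial d.1 (f.coeff d.1)).map (algebraMap A A'))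
    rw [map_monomial, expand_monomial, monomial_pow, hr, mul_comm]
  letI : Algebra A[X] A'[X] := φ.toAlgebra
  have hφC : ∀ a, φ (C a) = C (algebraMap A A' a) := fun a => by simp [φ]
  haveI : IsScalarTower A A[X] A'[X] := IsScalarTower.of_algebraMap_eq fun a => (hφC a).symm
  haveI : Algebra.FiniteType A A'[X] := Algebra.FiniteType.trans (S := A') inferInstance inferInstance
  haveI : Algebra.FiniteType A[X] A'[X] := Algebra.FiniteType.of_restrictScalars_finiteType A _ _
  haveI : Algebra.IsIntegral A[X] A'[X] := ⟨fun f => by
    induction f using Polynomial.induction_on with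
    | C a => exact ((Algebra.IsIntegral.isIntegral (R := A) a).map (IsScalarTower.toAlgHom A A' A'[X])).tower_top
    | add f g hf hg => exact hf.add hg
    | monomial n a hf =>
      rw [pow_succ, ← mul_assoc]
      refine hf.mul (IsIntegral.of_pow hq ?_)
      rw [show (X : A'[X]) ^ p ^ N = algebraMap A[X] A'[X] X by
        show _ = expand A' (p ^ N) ((X : A[X]).map (algebraMap A A'))
        rw [Polynomial.map_X, expand_X]]
      exact isIntegral_algebraMap⟩
  haveI : Module.Finite A[X] A'[X] := Algebra.IsIntegral.finite
  let M := FractionRing A'[X]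
  let Ω := AlgebraicClosure M
  let toM : K →+* M := IsFractionRing.lift (A := A[X]) (g := (algebraMap A'[X] M).comp φ)
    ((IsFractionRing.injective A'[X] M).comp hφ)
  letI : Algebra K Ω := ((algebraMap M Ω).comp toM).toAlgebra
  haveI : ExpChar Ω p := expChar_of_injective_ringHom (algebraMap K Ω).injective p
  haveI : Algebra.IsAlgebraic K K' := Algebra.IsAlgebraic.of_finite K K'
  let ι : K' →ₐ[K] Ω := IsAlgClosed.lift
  have htoM : ∀ a : A[X], toM (algebraMap A[X] K a) = algebraMap A'[X] M (φ a) := fun a =>
    IsFractionRing.lift_algebraMap _ a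
  have hgen : ∀ y : s, ι (y : K') ∈ (algebraMap M Ω).fieldRange := by
    intro y
    obtain ⟨a', ha'⟩ := hrootmem (num y) fun d hd =>
      Finset.mem_biUnion.2 ⟨y, Finset.mem_univ _, Finset.mem_union_left _ (Finset.mem_image_of_mem _ hd)⟩
    obtain ⟨b', hb'⟩ := hrootmem (den y) fun d hd =>
      Finset.mem_biUnion.2 ⟨y, Finset.mem_univ _, Finset.mem_union_right _ (Finset.mem_image_of_mem _ hd)⟩
    refine ⟨algebraMap A'[X] M a' / algebraMap A'[X] M b', iterateFrobenius_inj Ω p N ?_⟩
    rw [iterateFrobenius_def, iterateFrobenius_def, ← map_pow, ← map_pow, hy, ι.commutes, div_pow, ← map_pow,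
      ← map_pow, ha', hb', ← htoM, ← htoM, ← map_div₀]
    rfl
  have hrange : ∀ z : K', ι z ∈ (algebraMap M Ω).fieldRange := by
    let F : IntermediateField K K' :=
      { toSubalgebra :=
          { toSubsemiring := (algebraMap M Ω).fieldRange.toSubring.toSubsemiring.comap ι.toRingHom
            algebraMap_mem' := fun c => ⟨toM c, (ι.commutes c).symm⟩ }
        inv_mem' := fun z hz => show ι z⁻¹ ∈ (algebraMap M Ω).fieldRange by
          rw [map_inv₀]; exact inv_mem hz }
    intro z
    have : (⊤ : IntermediateField K K') ≤ F := hs ▸ IntermediateField.adjoin_le_iff.2 fun w hw => hgen ⟨w, hw⟩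
    exact this IntermediateField.mem_top
  choose emb hemb using hrange
  have hinj : Function.Injective (algebraMap M Ω) := (algebraMap M Ω).injective
  let j : K' →ₐ[A[X]] M :=
    { toFun := emb
      map_one' := hinj (by rw [hemb, map_one, map_one])
      map_mul' := fun a b => hinj (by rw [map_mul (algebraMap M Ω), hemb, hemb, hemb, map_mul])
      map_zero' := hinj (by rw [hemb, map_zero, map_zero])
      map_add' := fun a b => hinj (by rw [RingHom.map_add, hemb, hemb, hemb]; exact map_add ι a b)
      commutes' := fun a => hinj (by
        rw [hemb, IsScalarTower.algebraMap_apply A[X] K K', ι.commutes]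
        exact congrArg (algebraMap M Ω) ((htoM a).trans (IsScalarTower.algebraMap_apply A[X] A'[X] M a).symm)) }
  have hland : ∀ z : integralClosure A[X] K', ∃ w : A'[X], algebraMap A'[X] M w = j z := fun z =>
    IsIntegrallyClosed.isIntegral_iff.1 ((z.2.map j).tower_top (A := A'[X]))
  choose w hw using hland
  let f : integralClosure A[X] K' →ₗ[A[X]] A'[X] :=
    { toFun := w
      map_add' := fun a b => IsFractionRing.injective A'[X] M (by
        rw [RingHom.map_add, hw, hw, hw]; exact map_add j (a : K') b)
      map_smul' := fun r a => IsFractionRing.injective A'[X] M (by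
        rw [RingHom.id_apply, hw, Algebra.smul_def r (w a), RingHom.map_mul, hw,
          ← IsScalarTower.algebraMap_apply A[X] A'[X] M]
        exact (map_smul j r (a : K')).trans (Algebra.smul_def r (j (a : K')))) }
  exact Module.Finite.of_injective f fun a b h => Subtype.ext (j.toRingHom.injective (by
    show j a = j b
    rw [← hw, ← hw]; exact congrArg _ h))

theorem isN2_polynomial_of_isN2 {A : Type u} [CommRing A] [IsDomain A] [IsNoetherianRing A] (hA : CAlg.IsN2 A) :
    CAlg.IsN2 A[X] :=
  S4562.result _ fun K' _ _ _ _ _ _ => finite_integralClosure_polynomial A hA K'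

theorem isN2_polynomial {A : Type u} [CommRing A] [IsDomain A] (hA : CAlg.IsNagata A) : CAlg.IsN2 A[X] := by
  haveI := hA.1
  exact isN2_polynomial_of_isN2 (N12Aux.isN2_of_isNagata hA)

/-- A domain with a finite normal extension domain is N-1. -/
theorem isN1_of_finite_normal {A B : Type u} [CommRing A] [IsDomain A] [IsNoetherianRing A] [CommRing B]
    [IsDomain B] [IsIntegrallyClosed B] [Algebra A B] [Module.Finite A B]
    (hinj : Function.Injective (algebraMap A B)) : CAlg.IsN1 A := by
  let K := FractionRing A
  let L := FractionRing B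
  haveI : FaithfulSMul A L := (faithfulSMul_iff_algebraMap_injective A L).2 (by
    rw [IsScalarTower.algebraMap_eq A B L]
    exact (IsFractionRing.injective B L).comp hinj)
  letI : Algebra K L := FractionRing.liftAlgebra A L
  haveI : IsScalarTower A K L := FractionRing.isScalarTower_liftAlgebra A L
  let j : K →ₐ[A] L := IsScalarTower.toAlgHom A K L
  have hland : ∀ z : integralClosure A K, ∃ w : B, algebraMap B L w = j z := fun z =>
    IsIntegrallyClosed.isIntegral_iff.1 ((z.2.map j).tower_top (A := B))
  choose w hw using hland
  let f : integralClosure A K →ₗ[A] B :=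
    { toFun := w
      map_add' := fun a b => IsFractionRing.injective B L (by
        rw [map_add (algebraMap B L), hw, hw, hw]; exact map_add j (a : K) b)
      map_smul' := fun r a => IsFractionRing.injective B L (by
        rw [RingHom.id_apply, hw, Algebra.smul_def r (w a), map_mul (algebraMap B L), hw,
          ← IsScalarTower.algebraMap_apply A B L]
        exact (map_smul j r (a : K)).trans (Algebra.smul_def r (j (a : K)))) }
  exact Module.Finite.of_injective f fun a b h => Subtype.ext ((algebraMap K L).injective (by
    show j a = j b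
    rw [← hw, ← hw]; exact congrArg _ h))

theorem isN1_polynomial_of_finite_normal {A B : Type u} [CommRing A] [IsDomain A] [IsNoetherianRing A]
    [CommRing B] [IsDomain B] [IsIntegrallyClosed B] [Algebra A B] [Module.Finite A B]
    (hinj : Function.Injective (algebraMap A B)) : CAlg.IsN1 A[X] := by
  let φ : A[X] →+* B[X] := mapRingHom (algebraMap A B)
  letI : Algebra A[X] B[X] := φ.toAlgebra
  haveI : IsScalarTower A A[X] B[X] := IsScalarTower.of_algebraMap_eq fun a =>
    (show φ (C a) = C (algebraMap A B a) by simp [φ]).symm
  haveI : Algebra.FiniteType A B[X] := Algebra.FiniteType.trans (S := B) inferInstance inferInstance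
  haveI : Algebra.FiniteType A[X] B[X] := Algebra.FiniteType.of_restrictScalars_finiteType A _ _
  haveI : Algebra.IsIntegral A[X] B[X] := ⟨fun f => by
    induction f using Polynomial.induction_on with
    | C a => exact ((Algebra.IsIntegral.isIntegral (R := A) a).map (IsScalarTower.toAlgHom A B B[X])).tower_top
    | add f g hf hg => exact hf.add hg
    | monomial n a hf =>
      rw [pow_succ, ← mul_assoc]
      refine hf.mul ?_
      rw [show (X : B[X]) = algebraMap A[X] B[X] X from (Polynomial.map_X _).symm]
      exact isIntegral_algebraMap⟩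
  haveI : Module.Finite A[X] B[X] := Algebra.IsIntegral.finite
  exact isN1_of_finite_normal (A := A[X]) (B := B[X]) (map_injective _ hinj)

theorem isN1_polynomial {A : Type u} [CommRing A] [IsDomain A] [IsNoetherianRing A] (hA : CAlg.IsN1 A) :
    CAlg.IsN1 A[X] := by
  let K := FractionRing A
  haveI : Module.Finite A (integralClosure A K) := hA
  haveI : IsIntegrallyClosed (integralClosure A K) := integralClosure.isIntegrallyClosedOfFiniteExtension K
  exact isN1_polynomial_of_finite_normal (B := integralClosure A K) fun a b h =>
    IsFractionRing.injective A K (congrArg Subtype.val h)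

theorem isNagata_polynomial {R : Type u} [CommRing R] (hR : CAlg.IsNagata R) : CAlg.IsNagata R[X] := by
  haveI := hR.1
  refine ⟨inferInstance, fun Q _ => ?_⟩
  let q := Q.comap (C : R →+* R[X])
  let F := R[X] ⧸ Q
  let A := R ⧸ q
  letI : Algebra A F := (Ideal.quotientMap Q (C : R →+* R[X]) le_rfl).toAlgebra
  haveI : IsScalarTower R A F := IsScalarTower.of_algebraMap_eq fun _ => rfl
  have hinj : Function.Injective (algebraMap A F) := Ideal.quotientMap_injective
  have hA : CAlg.IsNagata A := N12Aux.isNagata_of_surjective _ Ideal.Quotient.mk_surjective hR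
  let ξ : F := Ideal.Quotient.mk Q X
  have hgen : Algebra.adjoin A {ξ} = ⊤ := by
    refine top_le_iff.1 fun z _ => ?_
    obtain ⟨f, rfl⟩ := Ideal.Quotient.mk_surjective z
    induction f using Polynomial.induction_on with
    | C a => exact Subalgebra.algebraMap_mem (Algebra.adjoin A {ξ}) (Ideal.Quotient.mk q a)
    | add f g hf hg => rw [map_add]; exact add_mem (hf Algebra.mem_top) (hg Algebra.mem_top)
    | monomial n a hf =>
      rw [pow_succ, ← mul_assoc, map_mul]
      exact mul_mem (hf Algebra.mem_top) (Algebra.subset_adjoin rfl)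
  by_cases halg : IsAlgebraic A ξ
  · exact isN2_of_algebraic hA F hinj ξ hgen halg
  · have hb : Function.Bijective (aeval (R := A) ξ) := by
      refine ⟨transcendental_iff_injective.1 halg, fun z => ?_⟩
      have hz : z ∈ Algebra.adjoin A {ξ} := hgen ▸ Algebra.mem_top
      rwa [Algebra.adjoin_singleton_eq_range_aeval] at hz
    exact N12Aux.isN2_of_ringEquiv (RingEquiv.ofBijective (aeval (R := A) ξ).toRingHom hb) (isN2_polynomial hA)

theorem isNagata_mvPolynomial {R : Type u} [CommRing R] (hR : CAlg.IsNagata R) :
    ∀ n, CAlg.IsNagata (MvPolynomial (Fin n) R) := by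
  intro n
  induction n with
  | zero => exact isNagata_of_ringEquiv (MvPolynomial.isEmptyRingEquiv R (Fin 0)).symm hR
  | succ n ih => exact isNagata_of_ringEquiv (MvPolynomial.finSuccEquiv R n).symm.toRingEquiv (isNagata_polynomial ih)

/-- Algebras of finite type over Nagata rings are Nagata. -/
theorem isNagata_of_finiteType {R : Type u} [CommRing R] (hR : CAlg.IsNagata R) (S : Type u) [CommRing S]
    [Algebra R S] [Algebra.FiniteType R S] : CAlg.IsNagata S := by
  obtain ⟨n, f, hf⟩ := Algebra.FiniteType.iff_quotient_mvPolynomial''.1 (inferInstance : Algebra.FiniteType R S)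
  exact N12Aux.isNagata_of_surjective f.toRingHom hf (isNagata_mvPolynomial hR n)

end Groth.Agent.CAlgOdd.NagataFT
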