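import Groth.Agent.CompleteNagata.Complete
import Groth.Agent.N12Aux.Nagata
import Groth.Agent.NagataLib.Localization
import Groth.Agent.FlatLoc6.SerreNormal

/-!
# Finite algebras over Nagata rings; integral closures in finite extensions
-/

set_option autoImplicit false
set_option linter.style.haveILetI false

namespace Groth.Agent.CAlgOdd.NagataFT

universe u

/-- A finite algebra over a Nagata ring is Nagata. -/
theorem isNagata_of_finite {A : Type u} [CommRing A] (B : Type u) [CommRing B] [Algebra A B] [Module.Finite A B]
    (h : CAlg.IsNagata A) : CAlg.IsNagata B := by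
  haveI := h.1
  refine ⟨IsNoetherianRing.of_finite A B, fun q _ => ?_⟩
  let p := q.comap (algebraMap A B)
  refine CompleteNagata.isN2_of_finite (Ideal.quotientMap q (algebraMap A B) le_rfl) Ideal.quotientMap_injective
    (RingHom.Finite.of_comp_finite (f := Ideal.Quotient.mk p) ?_) (h.2 p)
  rw [Ideal.quotientMap_comp_mk]
  exact (RingHom.Finite.of_surjective _ Ideal.Quotient.mk_surjective).comp (RingHom.finite_algebraMap.2 ‹_›)

theorem isNagata_of_ringEquiv {A B : Type u} [CommRing A] [CommRing B] (e : A ≃+* B) (h : CAlg.IsNagata A) :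
    CAlg.IsNagata B :=
  N12Aux.isNagata_of_surjective e.toRingHom e.surjective h

theorem isN1_of_ringEquiv {R S : Type u} [CommRing R] [IsDomain R] [CommRing S] [IsDomain S]
    (e : R ≃+* S) (h : CAlg.IsN1 R) : CAlg.IsN1 S := by
  letI : Algebra R S := e.toRingHom.toAlgebra
  haveI : IsLocalization (⊥ : Submonoid R) S :=
    { map_units := fun y => by
        obtain ⟨y, hy⟩ := y
        rw [Submonoid.mem_bot] at hy
        subst hy
        simp
      surj := fun z => ⟨⟨e.symm z, 1⟩, by
        show z * algebraMap R S 1 = e (e.symm z)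
        rw [map_one, mul_one, e.apply_symm_apply]⟩
      exists_of_eq := fun {x y} hxy => ⟨1, by rw [show x = y from e.injective hxy]⟩ }
  exact N12Aux.isN1_of_isLocalization h ⊥ S

/-- A normal domain is N-1. -/
theorem isN1_of_isIntegrallyClosed (R : Type u) [CommRing R] [IsDomain R] [IsIntegrallyClosed R] :
    CAlg.IsN1 R := by
  show Module.Finite R (integralClosure R (FractionRing R))
  rw [IsIntegrallyClosed.integralClosure_eq_bot R (FractionRing R)]
  exact Module.Finite.of_surjective (Algebra.ofId R (⊥ : Subalgebra R (FractionRing R))).toLinearMap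
    fun x => by
      obtain ⟨r, hr⟩ := Algebra.mem_bot.1 x.2
      exact ⟨r, Subtype.ext hr⟩

section Closure

variable (A : Type u) [CommRing A] (E : Type u) [CommRing E] [IsDomain E] [Algebra A E] [Module.Finite A E]

/-- The normalization of a finite domain over a ring with Nagata image is finite. -/
theorem finite_normalization (h : CAlg.IsNagata (A ⧸ RingHom.ker (algebraMap A E))) :
    Module.Finite A (integralClosure A (FractionRing E)) := by
  let I := RingHom.ker (algebraMap A E)
  letI : Algebra (A ⧸ I) E := (RingHom.kerLift (algebraMap A E)).toAlgebra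
  haveI : IsScalarTower A (A ⧸ I) E := IsScalarTower.of_algebraMap_eq fun _ => rfl
  haveI : Module.Finite (A ⧸ I) E := Module.Finite.of_restrictScalars_finite A _ _
  haveI := N12Aux.finite_normalization_of_finite h E
  haveI : IsScalarTower A (A ⧸ I) (FractionRing E) := IsScalarTower.of_algebraMap_eq fun a => by
    rw [IsScalarTower.algebraMap_apply A E (FractionRing E), IsScalarTower.algebraMap_apply (A ⧸ I) E (FractionRing E)]
    rfl
  haveI : Module.Finite A (integralClosure (A ⧸ I) (FractionRing E)) := Module.Finite.trans (A ⧸ I) _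
  haveI : Algebra.IsIntegral A (A ⧸ I) :=
    algebraMap_isIntegral_iff.1 (RingHom.isIntegral_of_surjective _ Ideal.Quotient.mk_surjective)
  let i : integralClosure (A ⧸ I) (FractionRing E) →ₗ[A] integralClosure A (FractionRing E) :=
    { toFun := fun z => ⟨z.1, isIntegral_trans z.1 z.2⟩
      map_add' := fun _ _ => rfl
      map_smul' := fun _ _ => rfl }
  exact Module.Finite.of_surjective i fun z => ⟨⟨z.1, z.2.tower_top⟩, rfl⟩

theorem isFractionRing_normalization :
    IsFractionRing (integralClosure A (FractionRing E)) (FractionRing E) := by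
  let j : E → integralClosure A (FractionRing E) := fun e =>
    ⟨algebraMap E (FractionRing E) e,
      (Algebra.IsIntegral.isIntegral (R := A) e).map (IsScalarTower.toAlgHom A E (FractionRing E))⟩
  exact IsFractionRing.of_field _ _ fun z => by
    obtain ⟨a, b, -, rfl⟩ := IsFractionRing.div_surjective (A := E) z
    exact ⟨j a, j b, rfl⟩

theorem isIntegrallyClosed_normalization :
    IsIntegrallyClosed (integralClosure A (FractionRing E)) := by
  haveI := isFractionRing_normalization A E
  rw [isIntegrallyClosed_iff (FractionRing E)]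
  intro z hz
  exact ⟨⟨z, isIntegral_trans (R := A) z hz⟩, rfl⟩

end Closure

/-- Height one primes of normal Noetherian domains give discrete valuation rings. -/
theorem isDVR_atPrime {R : Type u} [CommRing R] [IsDomain R] [IsNoetherianRing R] [IsIntegrallyClosed R]
    (P : Ideal R) [P.IsPrime] (h : P.height ≤ 1) (hP : P ≠ ⊥) :
    IsDiscreteValuationRing (Localization.AtPrime P) := by
  haveI : IsIntegrallyClosed (Localization.AtPrime P) :=
    isIntegrallyClosed_of_isLocalization _ P.primeCompl P.primeCompl_le_nonZeroDivisors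
  refine CDiv6.isDVR_of_dim_eq_one _ ?_
  rw [IsLocalization.AtPrime.ringKrullDim_eq_height P]
  have h0 : P.height ≠ 0 := fun h0 => hP (Ideal.height_eq_zero_iff_eq_bot.mp h0)
  rw [le_antisymm h (Order.one_le_iff_ne_zero.2 h0)]
  rfl

/-- Associated primes of `R / xR` in a normal Noetherian domain have discrete valuation rings. -/
theorem isDVR_of_mem_ass {R : Type u} [CommRing R] [IsDomain R] [IsNoetherianRing R] [IsIntegrallyClosed R]
    {x : R} (hx : x ≠ 0) (P : Ideal R) [P.IsPrime] (hP : P ∈ associatedPrimes R (R ⧸ Ideal.span {x})) :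
    IsDiscreteValuationRing (Localization.AtPrime P) := by
  have hxP : x ∈ P := (IsAssociatedPrime.annihilator_le (AssociatedPrimes.mem_iff.1 hP))
    (Submodule.mem_annihilator.2 fun y _ => by
      obtain ⟨y, rfl⟩ := Ideal.Quotient.mk_surjective y
      show Ideal.Quotient.mk _ (x * y) = 0
      exact Ideal.Quotient.eq_zero_iff_mem.2 (Ideal.mem_span_singleton.2 ⟨y, rfl⟩))
  have hS := (FlatLoc6.R1_S2_of_normal (R := R) fun p _ =>
    ⟨inferInstance, isIntegrallyClosed_of_isLocalization _ p.primeCompl p.primeCompl_le_nonZeroDivisors⟩).2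
  refine isDVR_atPrime P (FlatLoc6.height_le_one_of_mem_ass_quot hS (b := x) ?_ hxP ?_) fun h => hx (by
    rwa [h, Ideal.mem_bot] at hxP)
  · exact fun a b h => mul_left_cancel₀ hx h
  · rwa [LinearEquiv.AssociatedPrimes.eq (Submodule.quotEquivOfEq _ (Ideal.span {x}) (by
      ext y
      rw [Submodule.mem_smul_pointwise_iff_exists, Ideal.mem_span_singleton]
      exact ⟨fun ⟨b, _, hb⟩ => ⟨b, hb.symm⟩, fun ⟨b, hb⟩ => ⟨b, Submodule.mem_top, hb.symm⟩⟩))]

end Groth.Agent.CAlgOdd.NagataFT
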