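import Groth.Agent.CAlgOdd.NagataFT.Crit
import Groth.Agent.CAlgOdd.NagataFT.Basic

/-!
# Adjoining an element of the fraction field to a normal domain
-/

set_option autoImplicit false
set_option linter.style.haveILetI false

namespace Groth.Agent.CAlgOdd.NagataFT

universe u

open Polynomial

/-- For `S = R[y]` inside the fraction field, `R ∩ y S ⊆ y R`. -/
theorem mem_range_of_mul_mem {R L : Type u} [CommRing R] [IsDomain R] [IsIntegrallyClosed R] [Field L]
    [Algebra R L] [IsFractionRing R L] (y : L) (p : R[X])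
    (hp : y * aeval y p ∈ Set.range (algebraMap R L)) : aeval y p ∈ Set.range (algebraMap R L) := by
  obtain ⟨n, hn⟩ : ∃ n, p.natDegree ≤ n := ⟨_, le_rfl⟩
  induction n generalizing p with
  | zero =>
    rw [eq_C_of_natDegree_le_zero hn, aeval_C]
    exact ⟨_, rfl⟩
  | succ n ih =>
    rcases Nat.lt_or_ge p.natDegree (n + 1) with hlt | hge
    · exact ih p hp (Nat.lt_succ_iff.1 hlt)
    have hdeg : p.natDegree = n + 1 := le_antisymm hn hge
    obtain ⟨c, hc⟩ := hp
    have hp0 : p ≠ 0 := fun h => by simp [h] at hdeg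
    have hint : IsIntegral R (p.leadingCoeff • y) := by
      have h := isIntegral_leadingCoeff_smul (R := R) (x := y) (p := X * p - C c) (by simp [hc])
      rwa [sub_eq_add_neg, ← map_neg, leadingCoeff_add_of_degree_lt', leadingCoeff_mul, leadingCoeff_X, one_mul] at h
      refine lt_of_le_of_lt degree_C_le ?_
      rw [degree_mul, degree_X, degree_eq_natDegree hp0]
      exact_mod_cast Nat.zero_lt_of_lt (Nat.lt_add_of_pos_right (n := 1) (by omega : 0 < p.natDegree))
    obtain ⟨w, hw⟩ := IsIntegrallyClosed.isIntegral_iff.1 hint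
    have heq : aeval y p = aeval y (p.eraseLead + C w * X ^ n) := by
      conv_lhs => rw [← p.eraseLead_add_C_mul_X_pow]
      rw [map_add, map_add, map_mul, map_mul, aeval_C, aeval_C, map_pow, map_pow, aeval_X, hdeg, pow_succ, hw,
        Algebra.smul_def]
      ring
    refine heq ▸ ih _ (heq ▸ ⟨c, hc⟩) ((natDegree_add_le _ _).trans (max_le ?_ (natDegree_C_mul_X_pow_le w n)))
    exact (eraseLead_natDegree_le p).trans (by omega)

/-- In `S = R[y] ⊆ Frac R`, primes associated with `S / yS` have parameters, and `R` maps onto their residue rings. -/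
theorem hasParam_adjoin {R S L : Type u} [CommRing R] [IsDomain R] [IsNoetherianRing R] [IsIntegrallyClosed R]
    [CommRing S] [IsDomain S] [IsNoetherianRing S] [Field L] [Algebra R S] [Algebra R L] [IsFractionRing R L]
    [Algebra S L] [IsScalarTower R S L] (hSL : Function.Injective (algebraMap S L)) (y : S) (hy : y ≠ 0)
    (hgen : Algebra.adjoin R {y} = ⊤) (P : Ideal S) (hP : P ∈ associatedPrimes S (S ⧸ Ideal.span {y})) :
    HasParam P y ∧ Function.Surjective (algebraMap R (S ⧸ P)) := by
  haveI := (AssociatedPrimes.mem_iff.1 hP).isPrime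
  have hι : Function.Injective (algebraMap R S) := fun a b h =>
    IsFractionRing.injective R L (by simp [IsScalarTower.algebraMap_apply R S L, h])
  have hdec : ∀ s : S, ∃ (c : R) (s₁ : S), s = algebraMap R S c + y * s₁ := by
    intro s
    obtain ⟨p, rfl⟩ : s ∈ (aeval (R := R) y).range := by
      rw [← Algebra.adjoin_singleton_eq_range_aeval, hgen]; exact Algebra.mem_top
    refine ⟨p.coeff 0, aeval y p.divX, ?_⟩
    show aeval y p = _
    conv_lhs => rw [← p.divX_mul_X_add, map_add, map_mul, aeval_X, aeval_C]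
    ring
  have hdiv : ∀ (c : R) (s : S), algebraMap R S c = y * s → ∃ e, s = algebraMap R S e := by
    intro c s h
    obtain ⟨p, rfl⟩ : s ∈ (aeval (R := R) y).range := by
      rw [← Algebra.adjoin_singleton_eq_range_aeval, hgen]; exact Algebra.mem_top
    have hL : algebraMap S L (aeval y p) = aeval (algebraMap S L y) p := (aeval_algebraMap_apply L y p).symm
    obtain ⟨e, he⟩ := mem_range_of_mul_mem (algebraMap S L y) p ⟨c, by
      rw [← hL, ← map_mul, IsScalarTower.algebraMap_apply R S L]
      exact congrArg (algebraMap S L) h⟩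
    exact ⟨e, hSL (by rw [← IsScalarTower.algebraMap_apply R S L, he]; exact hL)⟩
  obtain ⟨hPp, ξ, hξ⟩ := isAssociatedPrime_iff.1 (AssociatedPrimes.mem_iff.1 hP)
  obtain ⟨s₀, rfl⟩ := Ideal.Quotient.mk_surjective ξ
  obtain ⟨c, s₁, hs₁⟩ := hdec s₀
  have hmemP : ∀ z, z ∈ P ↔ y ∣ z * algebraMap R S c := fun z => by
    rw [hξ, Submodule.mem_colon_singleton, Submodule.mem_bot]
    show Ideal.Quotient.mk _ (z * s₀) = 0 ↔ _
    rw [Ideal.Quotient.eq_zero_iff_mem, Ideal.mem_span_singleton, hs₁, mul_add, ← mul_assoc, mul_comm z y,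
      mul_assoc, dvd_add_left (dvd_mul_right y _)]
  have hyP : y ∈ P := (hmemP y).2 (dvd_mul_right _ _)
  refine ⟨?_, fun q => ?_⟩
  swap
  · obtain ⟨s, rfl⟩ := Ideal.Quotient.mk_surjective q
    obtain ⟨d, s', rfl⟩ := hdec s
    exact ⟨d, (Ideal.Quotient.eq.2 (by
      rw [← sub_sub, sub_self, zero_sub]
      exact P.neg_mem (P.mul_mem_right _ hyP)))⟩
  obtain ⟨a, b, hb, hab⟩ := IsFractionRing.div_surjective (A := R) (algebraMap S L y)
  have hb0 : b ≠ 0 := nonZeroDivisors.ne_zero hb
  have hby : algebraMap R S b * y = algebraMap R S a := hSL (by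
    rw [map_mul, ← IsScalarTower.algebraMap_apply, ← IsScalarTower.algebraMap_apply, ← hab,
      mul_div_cancel₀ _ ((map_ne_zero_iff _ (IsFractionRing.injective R L)).2 hb0)])
  have hιb : algebraMap R S b ≠ 0 := (map_ne_zero_iff _ hι).2 hb0
  have ha0 : a ≠ 0 := fun h => mul_ne_zero hιb hy (by rw [hby, h, map_zero])
  let P₀ := P.comap (algebraMap R S)
  have hP₀ : ∀ d, d ∈ P₀ ↔ a ∣ d * (c * b) := fun d => by
    rw [Ideal.mem_comap, hmemP]
    constructor
    · rintro ⟨s, hs⟩
      obtain ⟨e, rfl⟩ := hdiv (d * c) s (by rw [map_mul]; exact hs)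
      refine ⟨e, hι ?_⟩
      rw [map_mul, map_mul, map_mul]
      linear_combination algebraMap R S b * hs + algebraMap R S e * hby
    · rintro ⟨e, he⟩
      refine ⟨algebraMap R S e, mul_left_cancel₀ hιb ?_⟩
      have h := congrArg (algebraMap R S) he
      rw [map_mul, map_mul, map_mul] at h
      linear_combination h - algebraMap R S e * hby
  have hass : P₀ ∈ associatedPrimes R (R ⧸ Ideal.span {a}) := by
    refine AssociatedPrimes.mem_iff.2 (isAssociatedPrime_iff.2
      ⟨inferInstance, Ideal.Quotient.mk _ (c * b), ?_⟩)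
    ext d
    rw [Submodule.mem_colon_singleton, Submodule.mem_bot, hP₀]
    show _ ↔ Ideal.Quotient.mk _ (d * (c * b)) = 0
    rw [Ideal.Quotient.eq_zero_iff_mem, Ideal.mem_span_singleton]
  haveI := isDVR_of_mem_ass ha0 P₀ hass
  obtain ⟨π, hπP, hπ0, hπ, n, t, ht, e, he⟩ := hasParam_of_isDVR P₀ ha0
  let V := Localization.AtPrime P₀
  have hV : Function.Injective (algebraMap R V) := IsLocalization.injective V P₀.primeCompl_le_nonZeroDivisors
  have hnd : ¬ algebraMap R V a ∣ algebraMap R V b := by
    rintro ⟨v, hv⟩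
    obtain ⟨⟨d, u⟩, hu⟩ := IsLocalization.surj P₀.primeCompl v
    have h : (u : R) * b = a * d := hV (by rw [map_mul, map_mul, hv, ← hu]; ring)
    have h2 : algebraMap R S (u : R) = y * algebraMap R S d := mul_left_cancel₀ hιb (by
      have h' := congrArg (algebraMap R S) h
      rw [map_mul, map_mul] at h'
      linear_combination h' - algebraMap R S d * hby)
    exact u.2 (show algebraMap R S (u : R) ∈ P from h2 ▸ P.mul_mem_right _ hyP)
  obtain ⟨v, hv⟩ := (ValuationRing.dvd_total (algebraMap R V b) (algebraMap R V a)).resolve_right hnd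
  obtain ⟨⟨v₀, u⟩, hu⟩ := IsLocalization.surj P₀.primeCompl v
  have hv₀ : v₀ ∈ P₀ := by
    by_contra hv₀
    have hvu : IsUnit v := isUnit_of_mul_isUnit_left (hu ▸ IsLocalization.map_units V (⟨v₀, hv₀⟩ : P₀.primeCompl))
    exact hnd (hv ▸ (hvu.mul_right_dvd).2 dvd_rfl)
  have hau : a * u = b * v₀ := hV (by rw [map_mul, map_mul, hv, ← hu]; ring)
  obtain ⟨s₂, hs₂, e₂, he₂⟩ := hπ v₀ hv₀
  have hey : algebraMap R S (s₂ * u) * y = algebraMap R S π * algebraMap R S e₂ := mul_left_cancel₀ hιb (by
    have h1 := congrArg (algebraMap R S) hau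
    have h2 := congrArg (algebraMap R S) he₂
    rw [map_mul, map_mul] at h1 h2
    rw [map_mul]
    linear_combination algebraMap R S s₂ * algebraMap R S (u : R) * hby + algebraMap R S s₂ * h1 + algebraMap R S b * h2)
  refine ⟨algebraMap R S π, hπP, (map_ne_zero_iff _ hι).2 hπ0, fun z hz => ?_,
    n, algebraMap R S t, ht, algebraMap R S (b * e), ?_⟩
  · obtain ⟨d, s', rfl⟩ := hdec z
    have hd : d ∈ P₀ := by
      have h := P.sub_mem hz (P.mul_mem_right s' hyP)
      rwa [add_sub_cancel_right] at h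
    obtain ⟨s₃, hs₃, e₃, he₃⟩ := hπ d hd
    refine ⟨algebraMap R S (s₃ * (s₂ * u)), fun h => ?_,
      algebraMap R S (s₂ * u * e₃) + algebraMap R S s₃ * algebraMap R S e₂ * s', ?_⟩
    · have h' : s₃ * (s₂ * u) ∈ P₀ := h
      rcases (inferInstance : P₀.IsPrime).mem_or_mem h' with h | h
      · exact hs₃ h
      · exact ((inferInstance : P₀.IsPrime).mem_or_mem h).elim hs₂ u.2
    · have h3 := congrArg (algebraMap R S) he₃
      rw [map_mul, map_mul] at h3
      rw [map_mul] at hey
      simp only [map_mul]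
      linear_combination algebraMap R S s₂ * algebraMap R S (u : R) * h3 + algebraMap R S s₃ * s' * hey
  · have h := congrArg (algebraMap R S) he
    rw [map_mul, map_mul, map_pow] at h
    rw [map_mul]
    linear_combination h - algebraMap R S e * hby

end Groth.Agent.CAlgOdd.NagataFT
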