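import Mathlib

/-!
# A reducedness criterion for flat algebras over domains
-/

set_option autoImplicit false
set_option linter.style.haveILetI false

namespace Groth.Agent.CAlgOdd.NagataFT

universe u

open Submodule

/-- `P` has a local parameter of which `x` divides a power, locally at `P`. -/
def HasParam {R : Type u} [CommRing R] (P : Ideal R) (x : R) : Prop :=
  ∃ π, π ∈ P ∧ π ≠ 0 ∧ (∀ z ∈ P, ∃ s, s ∉ P ∧ π ∣ s * z) ∧ ∃ (n : ℕ) (t : R), t ∉ P ∧ x ∣ t * π ^ n

theorem hasParam_of_isDVR {R : Type u} [CommRing R] [IsDomain R] (P : Ideal R) [P.IsPrime]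
    [IsDomain (Localization.AtPrime P)] [IsDiscreteValuationRing (Localization.AtPrime P)] {x : R} (hx : x ≠ 0) :
    HasParam P x := by
  let V := Localization.AtPrime P
  have hinj : Function.Injective (algebraMap R V) := IsLocalization.injective V P.primeCompl_le_nonZeroDivisors
  obtain ⟨ϖ, hϖ⟩ := IsDiscreteValuationRing.exists_irreducible V
  obtain ⟨⟨π, s₀⟩, hs₀⟩ := IsLocalization.surj P.primeCompl ϖ
  have hu₀ : IsUnit (algebraMap R V s₀) := IsLocalization.map_units V s₀
  have hirr : Irreducible (algebraMap R V π) := by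
    rw [← hs₀]
    exact (irreducible_mul_isUnit hu₀).2 hϖ
  have hmax := hirr.maximalIdeal_eq
  have hπP : π ∈ P := (IsLocalization.AtPrime.to_map_mem_maximal_iff V P π).1
    (hmax ▸ Ideal.mem_span_singleton_self _)
  refine ⟨π, hπP, fun h => hirr.ne_zero (by rw [h, map_zero]), fun z hz => ?_, ?_⟩
  · have h1 := (IsLocalization.AtPrime.to_map_mem_maximal_iff V P z).2 hz
    rw [hmax, Ideal.mem_span_singleton'] at h1
    obtain ⟨c, hc⟩ := h1
    obtain ⟨⟨a, s⟩, has⟩ := IsLocalization.surj P.primeCompl c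
    refine ⟨s, s.2, a, hinj ?_⟩
    rw [map_mul, map_mul, ← hc, ← has]
    ring
  · obtain ⟨n, u, hu⟩ := IsDiscreteValuationRing.eq_unit_mul_pow_irreducible
      ((map_ne_zero_iff _ hinj).2 hx) hirr
    obtain ⟨⟨a, s⟩, has⟩ := IsLocalization.surj P.primeCompl (u : V)
    have haP : a ∉ P := fun haP => by
      have h1 := (IsLocalization.AtPrime.to_map_mem_maximal_iff V P a).2 haP
      rw [← has] at h1
      exact h1 (u.isUnit.mul (IsLocalization.map_units V s))
    refine ⟨n, a, haP, s, hinj ?_⟩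
    rw [map_mul, map_mul, map_pow, ← has, hu]
    ring

variable {R C : Type u} [CommRing R] [CommRing C] [Algebra R C]

theorem isSMulRegular_of_flat [IsDomain R] [Module.Flat R C] {a : R} (ha : a ≠ 0) :
    IsSMulRegular C a :=
  Module.Flat.isSMulRegular_of_nonZeroDivisors (mem_nonZeroDivisors_of_ne_zero ha)

/-- Nilpotent elements are divisible by `x`. -/
theorem mem_span_of_isNilpotent [IsNoetherianRing R] [IsDomain R] [IsNoetherianRing C] [Module.Flat R C] (x : R)
    (hP : ∀ P ∈ associatedPrimes R (R ⧸ Ideal.span {x}),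
      HasParam P x ∧ IsReduced (C ⧸ P.map (algebraMap R C)))
    {z : C} (hz : IsNilpotent z) : z ∈ Ideal.span {algebraMap R C x} := by
  classical
  let X : Ideal C := Ideal.span {algebraMap R C x}
  by_contra hzX
  haveI : Nontrivial (Submodule.span C {Ideal.Quotient.mk X z}) :=
    nontrivial_of_ne ⟨_, Submodule.mem_span_singleton_self _⟩ 0 fun h =>
      hzX (Ideal.Quotient.eq_zero_iff_mem.1 (congrArg Subtype.val h))
  obtain ⟨Q, hQ⟩ := associatedPrimes.nonempty C (Submodule.span C {Ideal.Quotient.mk X z})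
  obtain ⟨hQp, ⟨w₀, hw₀⟩, hQe⟩ := isAssociatedPrime_iff.1 (AssociatedPrimes.mem_iff.1 hQ)
  obtain ⟨c, rfl⟩ := Submodule.mem_span_singleton.1 hw₀
  let w : C := c * z
  have hQw : ∀ b, b ∈ Q ↔ b * w ∈ X := fun b => by
    rw [hQe, Submodule.mem_colon_singleton, Submodule.mem_bot, ← Subtype.coe_inj]
    show b • c • Ideal.Quotient.mk X z = 0 ↔ _
    rw [← Ideal.Quotient.eq_zero_iff_mem, map_mul, map_mul]
    rfl
  have hw : IsNilpotent w := (Commute.all c z).isNilpotent_mul_left hz
  -- `Q` lies over a zero divisor of `R / x`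
  let q := Q.comap (algebraMap R C)
  have hsub : (q : Set R) ⊆ ⋃ P ∈ associatedPrimes R (R ⧸ Ideal.span {x}), (P : Set R) := by
    intro a ha
    rw [biUnion_associatedPrimes_eq_zero_divisors]
    by_contra hreg
    obtain ⟨v, hv⟩ := Ideal.mem_span_singleton'.1 ((hQw _).1 ha)
    obtain ⟨k, m, y, hy, hm⟩ := Module.Flat.isTrivialRelation_of_sum_smul_eq_zero (R := R) (M := C)
      (f := ![a, -x]) (x := ![w, v]) (by simp [Algebra.smul_def, mul_comm _ v, hv])
    refine hQp.ne_top ((Ideal.eq_top_iff_one _).2 ((hQw 1).2 ?_))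
    rw [one_mul]
    have hw' : w = ∑ j, m 0 j • y j := hy 0
    rw [hw']
    refine sum_mem fun j _ => ?_
    have hj := hm j
    simp only [Fin.sum_univ_two, Matrix.cons_val_zero, Matrix.cons_val_one, Matrix.cons_val_fin_one] at hj
    obtain ⟨e, he⟩ : x ∣ m 0 j := by
      rw [← Ideal.mem_span_singleton]
      by_contra hne
      refine hreg ⟨Ideal.Quotient.mk _ (m 0 j), fun h => hne (Ideal.Quotient.eq_zero_iff_mem.1 h), ?_⟩
      show Ideal.Quotient.mk _ (a * m 0 j) = 0
      rw [Ideal.Quotient.eq_zero_iff_mem, Ideal.mem_span_singleton]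
      exact ⟨m 1 j, by linear_combination hj⟩
    rw [Algebra.smul_def, he, map_mul, mul_assoc]
    exact Ideal.mul_mem_right _ _ (Ideal.mem_span_singleton_self _)
  obtain ⟨P, hPA, hqP⟩ := (Ideal.subset_union_prime_finite (associatedPrimes.finite R _) (f := id)
    ⊥ ⊥ fun i hi _ _ => (AssociatedPrimes.mem_iff.1 hi).isPrime).1 hsub
  haveI := (AssociatedPrimes.mem_iff.1 hPA).isPrime
  obtain ⟨⟨π, hπP, hπ0, hπ, n, t, ht, e, he⟩, hred⟩ := hP P hPA
  have step : ∀ w : C, IsNilpotent w → ∃ s, s ∉ P ∧ ∃ w', IsNilpotent w' ∧ algebraMap R C s * w = algebraMap R C π * w' := by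
    intro w hw
    have hwP : w ∈ P.map (algebraMap R C) :=
      Ideal.Quotient.eq_zero_iff_mem.1 (hw.map (Ideal.Quotient.mk (P.map (algebraMap R C)))).eq_zero
    suffices ∃ s, s ∉ P ∧ ∃ w', algebraMap R C s * w = algebraMap R C π * w' by
      obtain ⟨s, hs, w', hw'⟩ := this
      refine ⟨s, hs, w', ?_, hw'⟩
      obtain ⟨k, hk⟩ := (Commute.all (algebraMap R C s) w).isNilpotent_mul_left hw
      refine ⟨k, (isSMulRegular_of_flat (C := C) (pow_ne_zero k hπ0)).eq_iff.1 ?_⟩
      rw [smul_zero, Algebra.smul_def, map_pow, ← mul_pow, ← hw', hk]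
    clear hw
    change w ∈ Ideal.span (algebraMap R C '' P) at hwP
    induction hwP using Submodule.span_induction with
    | mem y hy =>
      obtain ⟨p, hp, rfl⟩ := hy
      obtain ⟨s, hs, d, hd⟩ := hπ p hp
      exact ⟨s, hs, algebraMap R C d, by rw [← map_mul, hd, map_mul]⟩
    | zero => exact ⟨1, (P.ne_top_iff_one).1 Ideal.IsPrime.ne_top', 0, by simp⟩
    | add y y' _ _ hy hy' =>
      obtain ⟨s, hs, d, hd⟩ := hy
      obtain ⟨s', hs', d', hd'⟩ := hy'
      refine ⟨s * s', fun h => (Ideal.IsPrime.mem_or_mem inferInstance h).elim hs hs',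
        algebraMap R C s' * d + algebraMap R C s * d', ?_⟩
      rw [map_mul]
      linear_combination algebraMap R C s' * hd + algebraMap R C s * hd'
    | smul b y _ hy =>
      obtain ⟨s, hs, d, hd⟩ := hy
      exact ⟨s, hs, b * d, by rw [smul_eq_mul]; linear_combination b * hd⟩
  have iter : ∀ k, ∃ s, s ∉ P ∧ ∃ w', IsNilpotent w' ∧ algebraMap R C s * w = algebraMap R C π ^ k * w' := by
    intro k
    induction k with
    | zero => exact ⟨1, (P.ne_top_iff_one).1 Ideal.IsPrime.ne_top', w, hw, by simp⟩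
    | succ k ih =>
      obtain ⟨s, hs, w', hw', h⟩ := ih
      obtain ⟨s', hs', w'', hw'', h'⟩ := step w' hw'
      refine ⟨s * s', fun hh => (Ideal.IsPrime.mem_or_mem inferInstance hh).elim hs hs', w'', hw'', ?_⟩
      rw [map_mul, pow_succ]
      linear_combination algebraMap R C s' * h + algebraMap R C π ^ k * h'
  obtain ⟨s, hs, w', -, h⟩ := iter n
  refine (fun hh => (Ideal.IsPrime.mem_or_mem inferInstance hh).elim hs ht) (hqP (show s * t ∈ q from ?_))
  rw [Ideal.mem_comap, hQw, Ideal.mem_span_singleton]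
  refine ⟨algebraMap R C e * w', ?_⟩
  have he' := congrArg (algebraMap R C) he
  rw [map_mul, map_mul, map_pow] at he'
  rw [map_mul]
  linear_combination algebraMap R C t * h + w' * he'

/-- Near a maximal ideal containing `x` there are no nilpotents. -/
theorem map_eq_zero_of_isNilpotent [IsNoetherianRing R] [IsDomain R] [IsNoetherianRing C] [Module.Flat R C]
    {x : R} (hx : x ≠ 0) (N : Ideal C) [N.IsPrime] (hxN : algebraMap R C x ∈ N)
    (hP : ∀ P ∈ associatedPrimes R (R ⧸ Ideal.span {x}),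
      HasParam P x ∧ IsReduced (C ⧸ P.map (algebraMap R C)))
    {z : C} (hz : IsNilpotent z) : algebraMap C (Localization.AtPrime N) z = 0 := by
  have key : ∀ n, ∀ z : C, IsNilpotent z → ∃ z', IsNilpotent z' ∧ z = algebraMap R C x ^ n * z' := by
    intro n
    induction n with
    | zero => exact fun z hz => ⟨z, hz, by simp⟩
    | succ n ih =>
      intro z hz
      obtain ⟨z', hz', rfl⟩ := ih z hz
      obtain ⟨d, rfl⟩ := Ideal.mem_span_singleton.1 (mem_span_of_isNilpotent x hP hz')
      refine ⟨d, ?_, by rw [pow_succ, mul_assoc]⟩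
      obtain ⟨k, hk⟩ := hz'
      refine ⟨k, (isSMulRegular_of_flat (C := C) (pow_ne_zero k hx)).eq_iff.1 ?_⟩
      rw [smul_zero, Algebra.smul_def, map_pow, ← mul_pow, hk]
  let L := Localization.AtPrime N
  haveI : IsNoetherianRing L := IsLocalization.isNoetherianRing N.primeCompl L inferInstance
  have hne : Ideal.span {algebraMap C L (algebraMap R C x)} ≠ ⊤ := fun h =>
    ((IsLocalization.AtPrime.to_map_mem_maximal_iff L N _).2 hxN) (Ideal.span_singleton_eq_top.1 h)
  rw [← Ideal.mem_bot, ← Ideal.iInf_pow_eq_bot_of_isLocalRing _ hne, Ideal.mem_iInf]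
  intro n
  obtain ⟨z', -, rfl⟩ := key n z hz
  rw [map_mul, map_pow, Ideal.span_singleton_pow]
  exact Ideal.mul_mem_right _ _ (Ideal.mem_span_singleton_self _)

/-- If every maximal ideal contains a suitable element then the algebra is reduced. -/
theorem isReduced_of_forall_maximal [IsNoetherianRing R] [IsDomain R] [IsNoetherianRing C] [Module.Flat R C]
    (h : ∀ (N : Ideal C) [N.IsMaximal], ∃ x : R, x ≠ 0 ∧ algebraMap R C x ∈ N ∧
      ∀ P ∈ associatedPrimes R (R ⧸ Ideal.span {x}), HasParam P x ∧ IsReduced (C ⧸ P.map (algebraMap R C))) :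
    IsReduced C := by
  refine ⟨fun z hz => ?_⟩
  by_contra hz0
  obtain ⟨N, hN, hzN⟩ := Ideal.exists_le_maximal ((⊥ : Submodule C C).colon {z}) fun ht => hz0 (by
    have h1 := (Ideal.eq_top_iff_one _).1 ht
    rwa [Submodule.mem_colon_singleton, one_smul, Submodule.mem_bot] at h1)
  obtain ⟨x, hx, hxN, hP⟩ := h N
  obtain ⟨⟨s, hs⟩, hsz⟩ := (IsLocalization.map_eq_zero_iff N.primeCompl _ z).1
    (map_eq_zero_of_isNilpotent hx N hxN hP hz)
  exact hs (hzN (by rw [Submodule.mem_colon_singleton, smul_eq_mul]; exact hsz))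

end Groth.Agent.CAlgOdd.NagataFT
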