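import Groth.Agent.CAlgOdd.NagataFT.Local
import Groth.Agent.CAlgOdd.NormalLocus

/-!
# One element in a finite field extension
-/

set_option autoImplicit false
set_option linter.style.haveILetI false

namespace Groth.Agent.CAlgOdd.NagataFT

universe u

set_option maxHeartbeats 1000000 in
/-- A normal Nagata domain with one element of its fraction field adjoined is N-1. -/
theorem isN1_adjoin_fraction {A : Type u} [CommRing A] [IsDomain A] [IsIntegrallyClosed A]
    (hA : CAlg.IsNagata A) (K : Type u) [Field K] [Algebra A K] [IsFractionRing A K]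
    {S : Type u} [CommRing S] [IsDomain S] [Algebra A S] [Algebra S K] [IsScalarTower A S K]
    (hSK : Function.Injective (algebraMap S K)) (ξ : S) (hgen : Algebra.adjoin A {ξ} = ⊤) :
    CAlg.IsN1 S := by
  classical
  haveI := hA.1
  haveI : Algebra.FiniteType A S := ⟨⟨{ξ}, by simpa using hgen⟩⟩
  haveI : IsNoetherianRing S := Algebra.FiniteType.isNoetherianRing A S
  have hAS : Function.Injective (algebraMap A S) := fun a b h =>
    IsFractionRing.injective A K (by simp [IsScalarTower.algebraMap_apply A S K, h])
  obtain ⟨a, b, hb, hab⟩ := IsFractionRing.div_surjective (A := A) (algebraMap S K ξ)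
  have hb0 : b ≠ 0 := nonZeroDivisors.ne_zero hb
  have hbK : algebraMap A K b ≠ 0 := (map_ne_zero_iff _ (IsFractionRing.injective A K)).2 hb0
  have hbξ : algebraMap A S b * ξ = algebraMap A S a := hSK (by
    rw [map_mul, ← IsScalarTower.algebraMap_apply, ← IsScalarTower.algebraMap_apply, ← hab, mul_div_cancel₀ _ hbK])
  -- after inverting `b` nothing happens
  have hclear : ∀ s : S, ∃ (n : ℕ) (c : A), algebraMap A S b ^ n * s = algebraMap A S c := by
    intro s
    have hs : s ∈ Algebra.adjoin A ({ξ} : Set S) := hgen ▸ Algebra.mem_top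
    induction hs using Algebra.adjoin_induction with
    | mem z hz =>
      rw [Set.mem_singleton_iff] at hz
      subst hz
      exact ⟨1, a, by rw [pow_one, hbξ]⟩
    | algebraMap r => exact ⟨0, r, by simp⟩
    | add z w _ _ hz hw =>
      obtain ⟨n, c, hc⟩ := hz
      obtain ⟨n', c', hc'⟩ := hw
      refine ⟨n + n', b ^ n' * c + b ^ n * c', ?_⟩
      simp only [map_add, map_mul, map_pow, pow_add]
      linear_combination algebraMap A S b ^ n' * hc + algebraMap A S b ^ n * hc'
    | mul z w _ _ hz hw =>
      obtain ⟨n, c, hc⟩ := hz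
      obtain ⟨n', c', hc'⟩ := hw
      refine ⟨n + n', c * c', ?_⟩
      rw [map_mul, ← hc, ← hc', pow_add]
      ring
  let Ab := Localization.Away b
  haveI : IsIntegrallyClosed Ab := isIntegrallyClosed_of_isLocalization _ (Submonoid.powers b)
    (powers_le_nonZeroDivisors_of_noZeroDivisors hb0)
  let f := algebraMap A S b
  have hf0 : f ≠ 0 := (map_ne_zero_iff _ hAS).2 hb0
  let Sb := Localization.Away f
  have hnorm : IsIntegrallyClosed Sb := by
    let j : Ab →+* Sb := IsLocalization.Away.lift (g := (algebraMap S Sb).comp (algebraMap A S)) b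
      (IsLocalization.map_units Sb (⟨f, Submonoid.mem_powers f⟩ : Submonoid.powers f))
    have hj : ∀ c, j (algebraMap A Ab c) = algebraMap S Sb (algebraMap A S c) := fun c =>
      IsLocalization.Away.lift_eq b _ c
    have hSinj : Function.Injective (algebraMap S Sb) :=
      IsLocalization.injective Sb (powers_le_nonZeroDivisors_of_noZeroDivisors hf0)
    have hjinj : Function.Injective j := (injective_iff_map_eq_zero j).2 fun z hz => by
      obtain ⟨⟨c, ⟨_, n, rfl⟩⟩, hc⟩ := IsLocalization.surj (Submonoid.powers b) z
      have hc' := congrArg j hc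
      rw [map_mul, hz, zero_mul, hj] at hc'
      have hc0 : c = 0 := hAS (hSinj (by rw [← hc', map_zero, map_zero]))
      rw [hc0, map_zero] at hc
      exact (IsLocalization.map_units Ab (⟨b ^ n, n, rfl⟩ : Submonoid.powers b)).mul_left_eq_zero.1 hc
    have hjsurj : Function.Surjective j := by
      intro z
      obtain ⟨⟨s, ⟨_, n, rfl⟩⟩, hs⟩ := IsLocalization.surj (Submonoid.powers f) z
      obtain ⟨k, c, hc⟩ := hclear s
      refine ⟨IsLocalization.mk' Ab c (⟨b ^ (k + n), k + n, rfl⟩ : Submonoid.powers b), ?_⟩
      have hu : IsUnit (algebraMap S Sb (f ^ (k + n))) :=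
        IsLocalization.map_units Sb (⟨f ^ (k + n), k + n, rfl⟩ : Submonoid.powers f)
      refine hu.mul_right_cancel ?_
      have h1 := congrArg j (IsLocalization.mk'_spec Ab c (⟨b ^ (k + n), k + n, rfl⟩ : Submonoid.powers b))
      rw [map_mul, hj, hj, map_pow] at h1
      rw [h1, ← hc, pow_add, map_mul, map_mul, ← hs]
      ring
    exact IsIntegrallyClosed.of_equiv (RingEquiv.ofBijective j ⟨hjinj, hjsurj⟩)
  refine NormalLocus.isN1_of_local hf0 hnorm fun m hmax => ?_
  -- pass to the local ring below `m`
  let p := m.comap (algebraMap A S)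
  let Ap := Localization.AtPrime p
  let M := Algebra.algebraMapSubmonoid S p.primeCompl
  have hM0 : M ≤ nonZeroDivisors S := by
    rintro _ ⟨s, hs, rfl⟩
    exact mem_nonZeroDivisors_of_ne_zero ((map_ne_zero_iff _ hAS).2 fun h => hs (h ▸ p.zero_mem))
  let Tp := Localization M
  haveI : IsDomain Tp := IsLocalization.isDomain_localization hM0
  letI : Algebra Ap Tp := (IsLocalization.map Tp (algebraMap A S)
    (show p.primeCompl ≤ M.comap (algebraMap A S) from p.primeCompl.le_comap_map)).toAlgebra
  haveI : IsScalarTower A Ap Tp := IsScalarTower.of_algebraMap_eq fun x => by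
    rw [IsScalarTower.algebraMap_apply A S Tp]
    exact (IsLocalization.map_eq (S := Ap) _ x).symm
  haveI : IsIntegrallyClosed Ap := isIntegrallyClosed_of_isLocalization _ p.primeCompl p.primeCompl_le_nonZeroDivisors
  obtain ⟨_, _, _⟩ := N12Aux.isFractionRing_trans A p.primeCompl p.primeCompl_le_nonZeroDivisors Ap K
  have hu : ∀ s : M, IsUnit (algebraMap S K s) := fun s =>
    (map_ne_zero_iff _ hSK).2 (nonZeroDivisors.ne_zero (hM0 s.2)) |> IsUnit.mk0 _
  letI : Algebra Tp K := (IsLocalization.lift hu).toAlgebra
  haveI : IsScalarTower S Tp K := IsScalarTower.of_algebraMap_eq fun s => (IsLocalization.lift_eq hu s).symm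
  haveI : IsScalarTower A Tp K := IsScalarTower.of_algebraMap_eq fun x => by
    rw [IsScalarTower.algebraMap_apply A S Tp, ← IsScalarTower.algebraMap_apply S Tp K, ← IsScalarTower.algebraMap_apply A S K]
  haveI : IsScalarTower Ap Tp K := IsScalarTower.of_algebraMap_eq' (IsLocalization.ringHom_ext p.primeCompl (by
    rw [RingHom.comp_assoc, ← IsScalarTower.algebraMap_eq A Ap Tp, ← IsScalarTower.algebraMap_eq A Tp K,
      ← IsScalarTower.algebraMap_eq A Ap K]))
  have hTK : Function.Injective (algebraMap Tp K) := (injective_iff_map_eq_zero _).2 fun z hz => by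
    obtain ⟨⟨s, t⟩, hs⟩ := IsLocalization.surj M z
    have h1 := congrArg (algebraMap Tp K) hs
    rw [map_mul, hz, zero_mul, ← IsScalarTower.algebraMap_apply] at h1
    have hs0 : s = 0 := hSK (h1.symm.trans (map_zero _).symm)
    rw [hs0, map_zero] at hs
    exact (IsLocalization.map_units Tp t).mul_left_eq_zero.1 hs
  have hgen' : Algebra.adjoin Ap {algebraMap S Tp ξ} = ⊤ := by
    refine top_le_iff.1 fun z _ => ?_
    obtain ⟨⟨s, ⟨_, t, ht, rfl⟩⟩, hs⟩ := IsLocalization.surj M z
    have hmem : ∀ s : S, algebraMap S Tp s ∈ Algebra.adjoin Ap ({algebraMap S Tp ξ} : Set Tp) := by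
      have : (⊤ : Subalgebra A S) ≤ ((Algebra.adjoin Ap ({algebraMap S Tp ξ} : Set Tp)).restrictScalars A).comap
          (IsScalarTower.toAlgHom A S Tp) := by
        rw [← hgen]
        exact Algebra.adjoin_le (Set.singleton_subset_iff.2 (Algebra.subset_adjoin (Set.mem_singleton _)))
      exact fun s => this Algebra.mem_top
    have hz : z = algebraMap Ap Tp (IsLocalization.mk' Ap (1 : A) ⟨t, ht⟩) * algebraMap S Tp s := by
      have h1 := congrArg (algebraMap Ap Tp) (IsLocalization.mk'_spec Ap (1 : A) (⟨t, ht⟩ : p.primeCompl))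
      rw [map_mul, map_one, map_one, ← IsScalarTower.algebraMap_apply A Ap Tp] at h1
      rw [← hs, ← mul_assoc, mul_comm _ z, mul_assoc, ← IsScalarTower.algebraMap_apply A S Tp, h1, mul_one]
    rw [hz]
    exact mul_mem (Subalgebra.algebraMap_mem _ _) (hmem s)
  let m' := m.map (algebraMap S Tp)
  have hdisj : Disjoint (M : Set S) (m : Set S) := Set.disjoint_left.2 fun x hx hxm => by
    obtain ⟨s, hs, rfl⟩ := hx
    exact hs hxm
  haveI : m'.IsPrime := IsLocalization.isPrime_of_isPrime_disjoint M Tp m inferInstance hdisj
  have hcomap : m'.comap (algebraMap S Tp) = m :=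
    IsLocalization.comap_map_of_isPrime_disjoint M Tp (I := m) inferInstance hdisj
  haveI : m'.IsMaximal := by
    obtain ⟨n, hn, hle⟩ := Ideal.exists_le_maximal m' (Ideal.IsPrime.ne_top inferInstance)
    have h1 : n.comap (algebraMap S Tp) = m :=
      (hmax.eq_of_le (Ideal.comap_ne_top _ hn.ne_top) (hcomap.ge.trans (Ideal.comap_mono hle))).symm
    have h2 : m' = n := (congrArg (Ideal.map (algebraMap S Tp)) h1).symm.trans (IsLocalization.map_comap M Tp n)
    exact h2 ▸ hn
  have hm' : m'.comap (algebraMap Ap Tp) = IsLocalRing.maximalIdeal Ap := by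
    haveI : (m'.comap (algebraMap Ap Tp)).IsPrime := Ideal.comap_isPrime _ _
    have h1 : (m'.comap (algebraMap Ap Tp)).comap (algebraMap A Ap) = p := by
      rw [Ideal.comap_comap, ← IsScalarTower.algebraMap_eq, IsScalarTower.algebraMap_eq A S Tp, ← Ideal.comap_comap,
        hcomap]
    exact (IsLocalization.map_comap p.primeCompl Ap (m'.comap (algebraMap Ap Tp))).symm.trans
      ((congrArg (Ideal.map (algebraMap A Ap)) h1).trans Localization.AtPrime.map_eq_maximalIdeal)
  have h := isN1_atPrime (NagataLib.isNagata_of_isLocalization hA p.primeCompl Ap) K hTK _ hgen' m' hm'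
  haveI : IsLocalization.AtPrime (Localization.AtPrime m') (m'.comap (algebraMap S Tp)) :=
    IsLocalization.isLocalization_atPrime_localization_atPrime M m'
  have hL : IsLocalization.AtPrime (Localization.AtPrime m') m := by
    have e : (m'.comap (algebraMap S Tp)).primeCompl = m.primeCompl := by
      ext x
      show x ∉ m'.comap (algebraMap S Tp) ↔ x ∉ m
      rw [hcomap]
    have h0 : IsLocalization (m'.comap (algebraMap S Tp)).primeCompl (Localization.AtPrime m') := ‹_›
    show IsLocalization m.primeCompl (Localization.AtPrime m')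
    rwa [e] at h0
  haveI := hL
  haveI : IsDomain (Localization.AtPrime m) := IsLocalization.isDomain_localization m.primeCompl_le_nonZeroDivisors
  haveI : IsDomain (Localization.AtPrime m') := IsLocalization.isDomain_localization m'.primeCompl_le_nonZeroDivisors
  exact isN1_of_ringEquiv
    (IsLocalization.algEquiv m.primeCompl (Localization.AtPrime m') (Localization.AtPrime m)).toRingEquiv h

/-- A domain generated over a Nagata domain by one algebraic element is N-2. -/
theorem isN2_of_algebraic {A : Type u} [CommRing A] [IsDomain A] (hA : CAlg.IsNagata A)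
    (F : Type u) [CommRing F] [IsDomain F] [Algebra A F] (hAF : Function.Injective (algebraMap A F)) (ξ : F)
    (hgen : Algebra.adjoin A {ξ} = ⊤) (hξ : IsAlgebraic A ξ) : CAlg.IsN2 F := by
  intro L _ _ _ _ hfin
  haveI := hA.1
  let K := FractionRing A
  let KF := FractionRing F
  haveI : FaithfulSMul A F := (faithfulSMul_iff_algebraMap_injective A F).2 hAF
  letI : Algebra K KF := FractionRing.liftAlgebra A KF
  haveI : IsScalarTower A K KF := FractionRing.isScalarTower_liftAlgebra A KF
  have hξK : IsIntegral K (algebraMap F KF ξ) :=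
    ((hξ.algebraMap (A := KF)).extendScalars (IsFractionRing.injective A K)).isIntegral
  haveI : FiniteDimensional K KF := by
    let K₁ := IntermediateField.adjoin K {algebraMap F KF ξ}
    haveI : FiniteDimensional K K₁ := IntermediateField.adjoin.finiteDimensional hξK
    have hmem : ∀ f : F, algebraMap F KF f ∈ K₁ := by
      have : (⊤ : Subalgebra A F) ≤ (K₁.toSubalgebra.restrictScalars A).comap (IsScalarTower.toAlgHom A F KF) := by
        rw [← hgen]
        exact Algebra.adjoin_le (Set.singleton_subset_iff.2 (IntermediateField.mem_adjoin_simple_self K _))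
      exact fun f => this Algebra.mem_top
    refine Module.Finite.of_surjective K₁.val.toLinearMap fun z => ?_
    obtain ⟨c, d, -, rfl⟩ := IsFractionRing.div_surjective (A := F) z
    exact ⟨⟨_, div_mem (hmem c) (hmem d)⟩, rfl⟩
  letI : Algebra A L := ((algebraMap F L).comp (algebraMap A F)).toAlgebra
  haveI : IsScalarTower A F L := IsScalarTower.of_algebraMap_eq fun _ => rfl
  letI : Algebra K L := ((algebraMap KF L).comp (algebraMap K KF)).toAlgebra
  haveI : IsScalarTower K KF L := IsScalarTower.of_algebraMap_eq fun _ => rfl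
  haveI : IsScalarTower A K L := IsScalarTower.of_algebraMap_eq fun a => by
    rw [IsScalarTower.algebraMap_apply K KF L, ← IsScalarTower.algebraMap_apply A K KF,
      IsScalarTower.algebraMap_apply A F KF, ← IsScalarTower.algebraMap_apply F KF L,
      ← IsScalarTower.algebraMap_apply A F L]
  haveI : FiniteDimensional K L := Module.Finite.trans KF L
  let A' := integralClosure A L
  haveI : Module.Finite A A' := N12Aux.finite_of_isN2 (N12Aux.isN2_of_isNagata hA) K L
  haveI : IsFractionRing A' L := integralClosure.isFractionRing_of_finite_extension K L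
  haveI : IsIntegrallyClosed A' := integralClosure.isIntegrallyClosedOfFiniteExtension K
  let xL := algebraMap F L ξ
  let S := Algebra.adjoin A' {xL}
  have hFS : ∀ f : F, algebraMap F L f ∈ S := by
    have : (⊤ : Subalgebra A F) ≤ (S.restrictScalars A).comap (IsScalarTower.toAlgHom A F L) := by
      rw [← hgen]
      exact Algebra.adjoin_le (Set.singleton_subset_iff.2 (Algebra.subset_adjoin (Set.mem_singleton _)))
    exact fun f => this Algebra.mem_top
  letI : Algebra F S := (RingHom.codRestrict (algebraMap F L) S.toSubring hFS).toAlgebra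
  haveI : IsScalarTower A F S := IsScalarTower.of_algebraMap_eq fun _ => rfl
  haveI : IsScalarTower F S L := IsScalarTower.of_algebraMap_eq fun _ => rfl
  haveI : Algebra.FiniteType A' S := (Subalgebra.fg_iff_finiteType S).1 ⟨{xL}, by simp [S]⟩
  haveI : Algebra.FiniteType A S := Algebra.FiniteType.trans (S := A') inferInstance inferInstance
  haveI : Algebra.FiniteType F S := Algebra.FiniteType.of_restrictScalars_finiteType A F S
  haveI : Algebra.IsIntegral F S := ⟨fun s => by
    obtain ⟨s, hs⟩ := s
    induction hs using Algebra.adjoin_induction with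
    | mem z hz =>
      rw [Set.mem_singleton_iff] at hz
      subst hz
      exact (isIntegral_algebraMap (R := F) (x := ξ) : IsIntegral F (algebraMap F S ξ))
    | algebraMap r => exact ((Algebra.IsIntegral.isIntegral (R := A) r).map (IsScalarTower.toAlgHom A A' S)).tower_top
    | add a b _ _ ha hb => exact ha.add hb
    | mul a b _ _ ha hb => exact ha.mul hb⟩
  haveI : Module.Finite F S := Algebra.IsIntegral.finite
  haveI : IsFractionRing S L := IsFractionRing.of_field _ _ fun z => by
    obtain ⟨c, d, -, rfl⟩ := IsFractionRing.div_surjective (A := A') z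
    exact ⟨algebraMap A' S c, algebraMap A' S d, rfl⟩
  have hN1 : CAlg.IsN1 S := isN1_adjoin_fraction (isNagata_of_finite A' hA) L (S := S) Subtype.val_injective
    ⟨xL, Algebra.subset_adjoin rfl⟩ (by
      refine top_le_iff.1 fun s _ => ?_
      obtain ⟨s, hs⟩ := s
      induction hs using Algebra.adjoin_induction with
      | mem z hz =>
        rw [Set.mem_singleton_iff] at hz
        subst hz
        exact Algebra.subset_adjoin (Set.mem_singleton _)
      | algebraMap r => exact Subalgebra.algebraMap_mem _ r
      | add a b _ _ ha hb => exact add_mem (ha Algebra.mem_top) (hb Algebra.mem_top)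
      | mul a b _ _ ha hb => exact mul_mem (ha Algebra.mem_top) (hb Algebra.mem_top))
  haveI : Module.Finite S (integralClosure S L) := N12Aux.finite_of_isN1 hN1 L
  haveI : Module.Finite F (integralClosure S L) := Module.Finite.trans S _
  let i : integralClosure S L →ₗ[F] integralClosure F L :=
    { toFun := fun z => ⟨z.1, isIntegral_trans z.1 z.2⟩
      map_add' := fun _ _ => rfl
      map_smul' := fun _ _ => rfl }
  exact Module.Finite.of_surjective i fun z => ⟨⟨z.1, z.2.tower_top⟩, rfl⟩

end Groth.Agent.CAlgOdd.NagataFT
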