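import Groth.Agent.CAlgOdd.NagataFT.Unramified
import Groth.Agent.CAlgOdd.NagataFT.Adjoin
import Groth.Agent.CompleteNagata.Unramified

/-!
# The key local step: `A[x]` is N-1 above the closed point of a normal Nagata local domain
-/

set_option autoImplicit false
set_option linter.style.haveILetI false

namespace Groth.Agent.CAlgOdd.NagataFT

universe u

open IsLocalRing TensorProduct

theorem cpl_dense {A : Type u} [CommRing A] [IsNoetherianRing A] [IsLocalRing A] (c : EGA4.Cpl A) :
    ∃ a : A, c - algebraMap A (EGA4.Cpl A) a ∈ (maximalIdeal A).map (algebraMap A (EGA4.Cpl A)) := by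
  have fg : (maximalIdeal A).FG := IsNoetherian.noetherian _
  obtain ⟨a, ha⟩ := Submodule.mkQ_surjective _ (AdicCompletion.eval (maximalIdeal A) A 1 c)
  refine ⟨a, ?_⟩
  suffices h : c - algebraMap A (EGA4.Cpl A) a ∈ (maximalIdeal A ^ 1).map (algebraMap A (EGA4.Cpl A)) by
    rwa [pow_one] at h
  rw [← LocalCrit.smul_top_eq_map, AdicCompletion.pow_smul_top_eq_ker_eval fg, LinearMap.mem_ker, map_sub,
    ← ha, sub_eq_zero]
  exact (AdicCompletion.eval_of _ _ 1 a).symm

theorem cpl_map_max {A : Type u} [CommRing A] [IsNoetherianRing A] [IsLocalRing A]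
    [IsLocalRing (EGA4.Cpl A)] :
    (maximalIdeal A).map (algebraMap A (EGA4.Cpl A)) = maximalIdeal (EGA4.Cpl A) :=
  (AdicCompletion.maximalIdeal_eq_map_of_fg (IsNoetherian.noetherian _)).symm

/-- The completion at a maximal ideal, seen over the global ring. -/
theorem cplAt_props (T : Type u) [CommRing T] [IsNoetherianRing T] (m : Ideal T) [m.IsMaximal]
    [IsLocalRing (EGA4.Cpl (Localization.AtPrime m))] :
    IsScalarTower T (Localization.AtPrime m) (EGA4.Cpl (Localization.AtPrime m)) ∧
    Module.Flat T (EGA4.Cpl (Localization.AtPrime m)) ∧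
    m.map (algebraMap T (EGA4.Cpl (Localization.AtPrime m))) = maximalIdeal _ ∧
    ∀ c, ∃ a : T, c - algebraMap T (EGA4.Cpl (Localization.AtPrime m)) a ∈
      m.map (algebraMap T (EGA4.Cpl (Localization.AtPrime m))) := by
  let Tm := Localization.AtPrime m
  let Ch := EGA4.Cpl Tm
  haveI hT : IsScalarTower T Tm Ch := inferInstance
  haveI := FlatLoc6.faithfullyFlat_cpl Tm
  have hmap : m.map (algebraMap T Ch) = maximalIdeal Ch := by
    rw [IsScalarTower.algebraMap_eq T Tm Ch, ← Ideal.map_map, Localization.AtPrime.map_eq_maximalIdeal, cpl_map_max]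
  refine ⟨hT, Module.Flat.trans T Tm Ch, hmap, fun c => ?_⟩
  obtain ⟨a', ha'⟩ := cpl_dense c
  obtain ⟨⟨a, s⟩, has⟩ := IsLocalization.surj m.primeCompl a'
  obtain ⟨v, w, hw, hvw⟩ := (‹m.IsMaximal›).exists_inv s.2
  refine ⟨a * v, ?_⟩
  rw [cpl_map_max] at ha'
  have h2 : a' - algebraMap T Tm (a * v) ∈ maximalIdeal Tm := by
    have hw' : algebraMap T Tm w ∈ maximalIdeal Tm := (IsLocalization.AtPrime.to_map_mem_maximal_iff Tm m w).2 hw
    have e : a' - algebraMap T Tm (a * v) = a' * algebraMap T Tm w := by
      rw [map_mul, ← has]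
      have h1 := congrArg (algebraMap T Tm) hvw
      rw [map_add, map_mul, map_one] at h1
      linear_combination -a' * h1
    exact e ▸ Ideal.mul_mem_left _ _ hw'
  rw [hmap]
  have h3 : algebraMap Tm Ch (a' - algebraMap T Tm (a * v)) ∈ maximalIdeal Ch := by
    rw [← cpl_map_max]; exact Ideal.mem_map_of_mem _ h2
  rw [map_sub, ← IsScalarTower.algebraMap_apply] at h3
  have := add_mem ha' h3
  rwa [sub_add_sub_cancel] at this

/-- Nagata local domains are analytically unramified. -/
theorem isReduced_cpl (A : Type u) [CommRing A] [IsDomain A] [IsLocalRing A] (hA : CAlg.IsNagata A) :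
    IsReduced (EGA4.Cpl A) := by
  haveI := hA.1
  haveI := FlatLoc6.isLocalRing_cpl A
  haveI := FlatLoc6.isNoetherianRing_cpl A
  haveI := FlatLoc6.faithfullyFlat_cpl A
  haveI := isReduced_tensor (maximalIdeal A) (EGA4.Cpl A) cpl_map_max cpl_dense A
    (N12Aux.isNagata_of_surjective _ Ideal.Quotient.mk_surjective hA)
  exact isReduced_of_injective (Algebra.TensorProduct.lid A (EGA4.Cpl A)).symm.toAlgHom
    (Algebra.TensorProduct.lid A (EGA4.Cpl A)).symm.injective

/-- Analytically unramified local domains are N-1. -/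
theorem isN1_of_isReduced_cpl (A : Type u) [CommRing A] [IsDomain A] [IsLocalRing A] [IsNoetherianRing A]
    (h : IsReduced (EGA4.Cpl A)) : CAlg.IsN1 A :=
  CompleteNagata.finite_integralClosure_of_reduced_tensor A A (FractionRing A) (nonZeroDivisors A) le_rfl
    (isReduced_of_injective (Algebra.TensorProduct.rid A A (EGA4.Cpl A)).toAlgHom
      (Algebra.TensorProduct.rid A A (EGA4.Cpl A)).injective)

set_option maxHeartbeats 1000000 in
/-- If `T = A[ξ] ⊆ K` for a normal Nagata local domain `A`, the local rings above the closed point are N-1. -/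
theorem isN1_atPrime {A : Type u} [CommRing A] [IsDomain A] [IsLocalRing A] [IsIntegrallyClosed A]
    (hA : CAlg.IsNagata A) (K : Type u) [Field K] [Algebra A K] [IsFractionRing A K]
    {T : Type u} [CommRing T] [IsDomain T] [Algebra A T] [Algebra T K] [IsScalarTower A T K]
    (hTK : Function.Injective (algebraMap T K)) (ξ : T) (hgen : Algebra.adjoin A {ξ} = ⊤)
    (m : Ideal T) [m.IsMaximal] (hm : m.comap (algebraMap A T) = maximalIdeal A) :
    CAlg.IsN1 (Localization.AtPrime m) := by
  classical
  haveI := hA.1
  have hbot : ∀ a, algebraMap A T a = ξ → IsIntegrallyClosed T := fun a ha => by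
    have hsurj : Function.Surjective (algebraMap A T) := fun t => by
      have h : t ∈ (⊥ : Subalgebra A T) := by
        have hle : Algebra.adjoin A {ξ} ≤ ⊥ := Algebra.adjoin_le (Set.singleton_subset_iff.2 ⟨a, ha⟩)
        exact hle (hgen ▸ Algebra.mem_top)
      exact h
    have hinj : Function.Injective (algebraMap A T) := fun a b h =>
      IsFractionRing.injective A K (by simp [IsScalarTower.algebraMap_apply A T K, h])
    exact IsIntegrallyClosed.of_equiv (RingEquiv.ofBijective _ ⟨hinj, hsurj⟩)
  by_cases hξ : ∃ a, algebraMap A T a = ξ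
  · obtain ⟨a, ha⟩ := hξ
    haveI := hbot a ha
    haveI : IsIntegrallyClosed (Localization.AtPrime m) :=
      isIntegrallyClosed_of_isLocalization _ m.primeCompl m.primeCompl_le_nonZeroDivisors
    exact isN1_of_isIntegrallyClosed _
  haveI : Algebra.FiniteType A T := ⟨⟨{ξ}, by simpa using hgen⟩⟩
  haveI : IsNoetherianRing T := Algebra.FiniteType.isNoetherianRing A T
  -- the residue of `ξ` is integral over the residue field
  obtain ⟨g, hgm, hg⟩ : IsIntegral A (Ideal.Quotient.mk m ξ) := by
    letI := Ideal.Quotient.field m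
    letI : Algebra (ResidueField A) (T ⧸ m) :=
      (Ideal.quotientMap m (algebraMap A T) hm.ge).toAlgebra
    haveI : IsScalarTower A (ResidueField A) (T ⧸ m) := IsScalarTower.of_algebraMap_eq fun _ => rfl
    haveI : Algebra.FiniteType A (T ⧸ m) := Algebra.FiniteType.trans (S := T) inferInstance inferInstance
    haveI : Algebra.FiniteType (ResidueField A) (T ⧸ m) := Algebra.FiniteType.of_restrictScalars_finiteType A _ _
    haveI : Module.Finite (ResidueField A) (T ⧸ m) := finite_of_finite_type_of_isJacobsonRing _ _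
    haveI : Algebra.IsIntegral A (ResidueField A) :=
      algebraMap_isIntegral_iff.1 (RingHom.isIntegral_of_surjective _ IsLocalRing.residue_surjective)
    exact isIntegral_trans _ (Algebra.IsIntegral.isIntegral (R := ResidueField A) _)
  -- the splitting field
  let L := (g.map (algebraMap A K)).SplittingField
  haveI : FiniteDimensional K L := Polynomial.IsSplittingField.finiteDimensional L (g.map (algebraMap A K))
  have hsplit : (g.map (algebraMap A L)).Splits := by
    have h := Polynomial.SplittingField.splits (g.map (algebraMap A K))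
    rwa [Polynomial.map_map, ← IsScalarTower.algebraMap_eq A K L] at h
  let A' := integralClosure A L
  haveI : Module.Finite A A' := N12Aux.finite_of_isN2 (N12Aux.isN2_of_isNagata hA) K L
  haveI : IsFractionRing A' L := integralClosure.isFractionRing_of_finite_extension K L
  haveI : IsIntegrallyClosed A' := integralClosure.isIntegrallyClosedOfFiniteExtension K
  haveI : IsNoetherianRing A' := IsNoetherianRing.of_finite A A'
  let τ : T →ₐ[A] L := (IsScalarTower.toAlgHom A K L).comp (IsScalarTower.toAlgHom A T K)
  have hτ : Function.Injective τ := (algebraMap K L).injective.comp hTK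
  let xL : L := τ ξ
  let S := Algebra.adjoin A' {xL}
  have hτS : ∀ t, τ t ∈ S := by
    have : (⊤ : Subalgebra A T) ≤ (S.restrictScalars A).comap τ := by
      rw [← hgen]
      exact Algebra.adjoin_le (Set.singleton_subset_iff.2 (Algebra.subset_adjoin (Set.mem_singleton _)))
    exact fun t => this Algebra.mem_top
  let τS : T →+* S := RingHom.codRestrict τ.toRingHom S.toSubring hτS
  letI : Algebra T S := τS.toAlgebra
  haveI : IsScalarTower A T S := IsScalarTower.of_algebraMap_eq fun a => Subtype.ext (τ.commutes a).symm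
  haveI : Algebra.FiniteType A' S := (Subalgebra.fg_iff_finiteType S).1 ⟨{xL}, by simp [S]⟩
  haveI : Algebra.FiniteType A S := Algebra.FiniteType.trans (S := A') inferInstance inferInstance
  haveI : Algebra.FiniteType T S := Algebra.FiniteType.of_restrictScalars_finiteType A T S
  haveI : Algebra.IsIntegral T S := ⟨fun s => by
    obtain ⟨s, hs⟩ := s
    induction hs using Algebra.adjoin_induction with
    | mem z hz =>
      rw [Set.mem_singleton_iff] at hz
      subst hz
      exact (isIntegral_algebraMap (R := T) (x := ξ) : IsIntegral T (algebraMap T S ξ))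
    | algebraMap r => exact ((Algebra.IsIntegral.isIntegral (R := A) r).map (IsScalarTower.toAlgHom A A' S)).tower_top
    | add a b _ _ ha hb => exact ha.add hb
    | mul a b _ _ ha hb => exact ha.mul hb⟩
  haveI : Module.Finite T S := Algebra.IsIntegral.finite
  haveI : IsNoetherianRing S := IsNoetherianRing.of_finite T S
  -- the completion
  let Ch := EGA4.Cpl (Localization.AtPrime m)
  haveI : IsNoetherianRing (Localization.AtPrime m) := IsLocalization.isNoetherianRing m.primeCompl _ inferInstance
  haveI := FlatLoc6.isLocalRing_cpl (Localization.AtPrime m)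
  haveI := FlatLoc6.isNoetherianRing_cpl (Localization.AtPrime m)
  obtain ⟨_, _, hmax, hdense⟩ := cplAt_props T m
  obtain ⟨hN, hcomap⟩ := tensor_props m Ch S hmax
  haveI := hN
  haveI hred : IsReduced (S ⊗[T] Ch) := by
    refine isReduced_of_forall_maximal (R := S) (C := S ⊗[T] Ch) fun N hNmax => ?_
    let m' := N.comap (algebraMap S (S ⊗[T] Ch))
    have hm' : ∀ t ∈ m, algebraMap T S t ∈ m' := fun t ht => by
      show algebraMap S (S ⊗[T] Ch) (algebraMap T S t) ∈ N
      rw [← IsScalarTower.algebraMap_apply]
      exact (hcomap N hNmax).ge ht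
    -- a root of `g` near `ξ`
    let ms := (g.map (algebraMap A L)).roots
    have hroot : ∀ α ∈ ms, IsIntegral A α := fun α hα => ⟨g, hgm, by
      have h := (Polynomial.mem_roots'.1 hα).2
      rwa [Polynomial.IsRoot, Polynomial.eval_map] at h⟩
    let ρ : {α // α ∈ ms} → S := fun α => algebraMap T S ξ - algebraMap A' S ⟨α.1, hroot _ α.2⟩
    have hprod : (ms.attach.map ρ).prod = algebraMap T S (Polynomial.aeval ξ g) := by
      refine Subtype.ext ?_
      show S.val (ms.attach.map ρ).prod = τ (Polynomial.aeval ξ g)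
      rw [map_multiset_prod, Multiset.map_map, ← Polynomial.aeval_algHom_apply, Polynomial.aeval_def,
        ← Polynomial.eval_map, hsplit.eq_prod_roots_of_monic (hgm.map _), Polynomial.eval_multiset_prod,
        Multiset.map_map]
      conv_rhs => rw [show (g.map (algebraMap A L)).roots = ms from rfl, ← Multiset.attach_map_val ms, Multiset.map_map]
      refine congrArg Multiset.prod (Multiset.map_congr rfl fun α _ => ?_)
      show τ ξ - (α.1 : L) = _
      simp
    have hgmem : Polynomial.aeval ξ g ∈ m := by
      rw [← Ideal.Quotient.eq_zero_iff_mem, ← Ideal.Quotient.mkₐ_eq_mk A, ← Polynomial.aeval_algHom_apply,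
        Polynomial.aeval_def]
      exact hg
    obtain ⟨y, hy, hyN⟩ := (inferInstance : m'.IsPrime).multiset_prod_mem_iff_exists_mem (ms.attach.map ρ) |>.1
      (hprod ▸ hm' _ hgmem)
    obtain ⟨⟨α, hα⟩, -, rfl⟩ := Multiset.mem_map.1 hy
    let α' : A' := ⟨α, hroot α hα⟩
    have hy0 : ρ ⟨α, hα⟩ ≠ 0 := fun h => hξ (by
      have h1 : τ ξ = α := sub_eq_zero.1 (congrArg Subtype.val h)
      have h2 : IsIntegral A (algebraMap T K ξ) := by
        refine (isIntegral_algHom_iff (IsScalarTower.toAlgHom A K L) (algebraMap K L).injective).1 ?_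
        rw [show IsScalarTower.toAlgHom A K L (algebraMap T K ξ) = α from h1]
        exact hroot α hα
      obtain ⟨a, ha⟩ := IsIntegrallyClosed.isIntegral_iff.1 h2
      exact ⟨a, hTK (by rw [← ha, IsScalarTower.algebraMap_apply A T K])⟩)
    have hgen' : Algebra.adjoin A' {ρ ⟨α, hα⟩} = ⊤ := by
      refine top_le_iff.1 fun s _ => ?_
      have hx : algebraMap T S ξ ∈ Algebra.adjoin A' {ρ ⟨α, hα⟩} := by
        have h := add_mem (Algebra.subset_adjoin (Set.mem_singleton (ρ ⟨α, hα⟩)) :
          ρ ⟨α, hα⟩ ∈ Algebra.adjoin A' {ρ ⟨α, hα⟩}) (Subalgebra.algebraMap_mem _ α')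
        rwa [show ρ ⟨α, hα⟩ + algebraMap A' S α' = algebraMap T S ξ from sub_add_cancel _ _] at h
      obtain ⟨s, hs⟩ := s
      induction hs using Algebra.adjoin_induction with
      | mem z hz =>
        rw [Set.mem_singleton_iff] at hz
        subst hz
        exact hx
      | algebraMap r => exact Subalgebra.algebraMap_mem _ r
      | add a b _ _ ha hb => exact add_mem (ha Algebra.mem_top) (hb Algebra.mem_top)
      | mul a b _ _ ha hb => exact mul_mem (ha Algebra.mem_top) (hb Algebra.mem_top)
    refine ⟨ρ ⟨α, hα⟩, hy0, hyN, fun P hP => ?_⟩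
    obtain ⟨hpar, hsurj⟩ := hasParam_adjoin (R := A') (L := L) (S := S) Subtype.val_injective _ hy0 hgen' P hP
    refine ⟨hpar, ?_⟩
    haveI := (AssociatedPrimes.mem_iff.1 hP).isPrime
    haveI : Module.Finite T (S ⧸ P) := Module.Finite.of_surjective ((Ideal.Quotient.mkₐ T P).toLinearMap)
      (Ideal.Quotient.mkₐ_surjective T P)
    haveI : Module.Finite A (S ⧸ P) := Module.Finite.of_surjective
      (IsScalarTower.toAlgHom A A' (S ⧸ P)).toLinearMap hsurj
    -- the image of `T` is finite over `A`
    have hnag : CAlg.IsNagata (T ⧸ RingHom.ker (algebraMap T (S ⧸ P))) := by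
      let q := RingHom.ker (algebraMap T (S ⧸ P))
      let f : (T ⧸ q) →ₐ[A] S ⧸ P :=
        Ideal.Quotient.liftₐ q (IsScalarTower.toAlgHom A T (S ⧸ P)) fun t ht => RingHom.mem_ker.1 ht
      haveI : Module.Finite A (T ⧸ q) :=
        Module.Finite.of_injective f.toLinearMap (RingHom.kerLift_injective (algebraMap T (S ⧸ P)))
      exact isNagata_of_finite (A := A) _ hA
    haveI := isReduced_tensor m Ch hmax hdense (S ⧸ P) hnag
    obtain ⟨f, hf⟩ := exists_injective_quot (T := T) Ch S P
    exact isReduced_of_injective f hf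
  haveI : IsReduced Ch := isReduced_of_injective (Algebra.TensorProduct.includeRight : Ch →ₐ[T] S ⊗[T] Ch)
    (Algebra.TensorProduct.includeRight_injective fun a b h => hτ (congrArg Subtype.val h))
  haveI : IsDomain (Localization.AtPrime m) := IsLocalization.isDomain_localization m.primeCompl_le_nonZeroDivisors
  exact isN1_of_isReduced_cpl (Localization.AtPrime m) ‹_›

end Groth.Agent.CAlgOdd.NagataFT
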