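import Groth.Agent.CAlgOdd.NagataFT.Crit
import Groth.Agent.CAlgOdd.NagataFT.Basic
import Groth.Agent.FlatLoc6.Cpl

/-!
# Nagata domains are analytically unramified
-/

set_option autoImplicit false
set_option linter.style.haveILetI false

namespace Groth.Agent.CAlgOdd.NagataFT

universe u

open IsLocalRing TensorProduct

variable {T : Type u} [CommRing T] [IsNoetherianRing T] (m : Ideal T) [m.IsMaximal]
  (Ch : Type u) [CommRing Ch] [Algebra T Ch] [IsLocalRing Ch] [IsNoetherianRing Ch] [Module.Flat T Ch]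

omit [IsNoetherianRing T] [IsNoetherianRing Ch] [Module.Flat T Ch] in
theorem comap_maximal (hmax : m.map (algebraMap T Ch) = maximalIdeal Ch) :
    (maximalIdeal Ch).comap (algebraMap T Ch) = m :=
  ((‹m.IsMaximal›).eq_of_le (Ideal.comap_ne_top _ (maximalIdeal.isMaximal Ch).ne_top)
    (Ideal.map_le_iff_le_comap.1 hmax.le)).symm

/-- A finite algebra tensored with a local ring is Noetherian with all maximal ideals above the closed point. -/
theorem tensor_props (B : Type u) [CommRing B] [Algebra T B] [Module.Finite T B]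
    (hmax : m.map (algebraMap T Ch) = maximalIdeal Ch) :
    IsNoetherianRing (B ⊗[T] Ch) ∧
      ∀ (N : Ideal (B ⊗[T] Ch)), N.IsMaximal → N.comap (algebraMap T (B ⊗[T] Ch)) = m := by
  let e : Ch ⊗[T] B ≃ₐ[T] B ⊗[T] Ch := Algebra.TensorProduct.comm T Ch B
  haveI : IsNoetherianRing (Ch ⊗[T] B) := IsNoetherianRing.of_finite Ch _
  refine ⟨isNoetherianRing_of_ringEquiv _ e.toRingEquiv, fun N hN => ?_⟩
  haveI : (N.comap e.toRingEquiv.toRingHom).IsMaximal :=
    Ideal.comap_isMaximal_of_surjective _ e.toRingEquiv.surjective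
  haveI : ((N.comap e.toRingEquiv.toRingHom).comap (algebraMap Ch (Ch ⊗[T] B))).IsMaximal :=
    Ideal.isMaximal_comap_of_isIntegral_of_isMaximal (R := Ch) (N.comap e.toRingEquiv.toRingHom)
  rw [← comap_maximal m Ch hmax, ← IsLocalRing.eq_maximalIdeal this, Ideal.comap_comap, Ideal.comap_comap,
    ← IsScalarTower.algebraMap_eq T Ch (Ch ⊗[T] B)]
  congr 1
  exact e.toAlgHom.comp_algebraMap.symm

omit [IsNoetherianRing T] [IsLocalRing Ch] [IsNoetherianRing Ch] [Module.Flat T Ch] [m.IsMaximal] in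
/-- A quotient by an extended ideal embeds in the tensor product with the quotient. -/
theorem exists_injective_quot (B : Type u) [CommRing B] [Algebra T B] (P : Ideal B) :
    ∃ f : (B ⊗[T] Ch) ⧸ P.map (algebraMap B (B ⊗[T] Ch)) →+* (B ⧸ P) ⊗[T] Ch, Function.Injective f := by
  let g : B ⊗[T] Ch →ₐ[T] (B ⧸ P) ⊗[T] Ch :=
    Algebra.TensorProduct.map (Ideal.Quotient.mkₐ T P) (AlgHom.id T Ch)
  have hker : RingHom.ker g.toRingHom = P.map (algebraMap B (B ⊗[T] Ch)) := by
    have h := Algebra.TensorProduct.rTensor_ker (R := T) (C := Ch) (Ideal.Quotient.mkₐ T P)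
      (Ideal.Quotient.mkₐ_surjective T P)
    rw [show RingHom.ker (Ideal.Quotient.mkₐ T P) = P from Ideal.Quotient.mkₐ_ker T P] at h
    exact h
  exact ⟨(RingHom.kerLift g.toRingHom).comp (Ideal.quotEquivOfEq hker.symm).toRingHom,
    (RingHom.kerLift_injective g.toRingHom).comp (Ideal.quotEquivOfEq hker.symm).injective⟩

omit [IsNoetherianRing Ch] [Module.Flat T Ch] [IsNoetherianRing T] in
/-- The closed point case. -/
theorem isReduced_tensor_of_ker_eq (hmax : m.map (algebraMap T Ch) = maximalIdeal Ch)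
    (hdense : ∀ c : Ch, ∃ a : T, c - algebraMap T Ch a ∈ m.map (algebraMap T Ch))
    (E : Type u) [CommRing E] [IsDomain E] [Algebra T E] (hker : RingHom.ker (algebraMap T E) = m) :
    IsReduced (E ⊗[T] Ch) := by
  have hkill : ∀ μ ∈ m.map (algebraMap T Ch), ∀ e : E, e ⊗ₜ[T] μ = 0 := by
    intro μ hμ
    change μ ∈ Ideal.span (algebraMap T Ch '' m) at hμ
    suffices ∀ (c : Ch) (e : E), e ⊗ₜ[T] (c * μ) = 0 by
      intro e
      simpa using this 1 e
    induction hμ using Submodule.span_induction with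
    | mem y hy =>
      obtain ⟨a, ha, rfl⟩ := hy
      intro c e
      have ha' : algebraMap T E a = 0 := RingHom.mem_ker.1 (hker.ge ha)
      rw [mul_comm, ← Algebra.smul_def, ← smul_tmul, Algebra.smul_def a e, ha', zero_mul, zero_tmul]
    | zero => simp
    | add y z _ _ hy hz =>
      intro c e
      rw [mul_add, tmul_add, hy, hz, add_zero]
    | smul b y _ hy =>
      intro c e
      rw [smul_eq_mul, ← mul_assoc]
      exact hy _ e
  choose a ha using hdense
  let π : Ch →ₐ[T] Ch ⧸ m.map (algebraMap T Ch) := Ideal.Quotient.mkₐ T _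
  let q : (T ⧸ m) →ₐ[T] Ch ⧸ m.map (algebraMap T Ch) :=
    Ideal.Quotient.liftₐ m (Algebra.ofId T _) fun x hx => by
      show Ideal.Quotient.mk _ (algebraMap T Ch x) = 0
      exact Ideal.Quotient.eq_zero_iff_mem.2 (Ideal.mem_map_of_mem _ hx)
  have hqb : Function.Bijective q := by
    letI := Ideal.Quotient.field m
    haveI : Nontrivial (Ch ⧸ m.map (algebraMap T Ch)) :=
      Ideal.Quotient.nontrivial_iff.2 (hmax ▸ (maximalIdeal.isMaximal Ch).ne_top)
    refine ⟨q.toRingHom.injective, fun y => ?_⟩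
    obtain ⟨c, rfl⟩ := Ideal.Quotient.mk_surjective y
    exact ⟨Ideal.Quotient.mk m (a c), (Ideal.Quotient.eq.2 (ha c)).symm⟩
  let ψ : Ch →ₐ[T] E := ((Ideal.Quotient.liftₐ m (Algebra.ofId T E) fun x hx => RingHom.mem_ker.1 (hker.ge hx)).comp
    (AlgEquiv.ofBijective q hqb).symm.toAlgHom).comp π
  let r : E ⊗[T] Ch →ₐ[T] E := Algebra.TensorProduct.lift (AlgHom.id T E) ψ fun _ _ => Commute.all _ _
  refine isReduced_of_injective r ?_
  have hsurj : ∀ z : E ⊗[T] Ch, ∃ e, z = e ⊗ₜ[T] (1 : Ch) := by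
    intro z
    induction z using TensorProduct.induction_on with
    | zero => exact ⟨0, (zero_tmul _ _).symm⟩
    | tmul e c =>
      refine ⟨a c • e, ?_⟩
      rw [smul_tmul, ← Algebra.algebraMap_eq_smul_one, ← sub_eq_zero, ← tmul_sub]
      exact hkill _ (ha c) e
    | add x y hx hy =>
      obtain ⟨e, rfl⟩ := hx
      obtain ⟨e', rfl⟩ := hy
      exact ⟨e + e', (add_tmul _ _ _).symm⟩
  refine (injective_iff_map_eq_zero r).2 fun z hz => ?_
  obtain ⟨e, rfl⟩ := hsurj z
  have : r (e ⊗ₜ[T] (1 : Ch)) = e := by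
    rw [Algebra.TensorProduct.lift_tmul, map_one, mul_one]; rfl
  rw [this] at hz
  rw [hz, zero_tmul]

/-- Finite domains with Nagata image stay reduced over the completion. -/
theorem isReduced_tensor (hmax : m.map (algebraMap T Ch) = maximalIdeal Ch)
    (hdense : ∀ c : Ch, ∃ a : T, c - algebraMap T Ch a ∈ m.map (algebraMap T Ch))
    (E : Type u) [CommRing E] [IsDomain E] [Algebra T E] [Module.Finite T E]
    (hE : CAlg.IsNagata (T ⧸ RingHom.ker (algebraMap T E))) : IsReduced (E ⊗[T] Ch) := by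
  suffices ∀ I : Ideal T, CAlg.IsNagata (T ⧸ I) → ∀ (E : Type u) [CommRing E] [IsDomain E] [Algebra T E]
      [Module.Finite T E], RingHom.ker (algebraMap T E) = I → IsReduced (E ⊗[T] Ch) from this _ hE E rfl
  clear hE
  intro I
  induction I using WellFoundedGT.induction with
  | _ I ih =>
  intro hI E _ _ _ _ hker
  by_cases hIm : I ≤ m
  swap
  · obtain ⟨s, hsI, hsm⟩ := SetLike.not_le_iff_exists.1 hIm
    have hu : IsUnit (algebraMap T Ch s) := by
      by_contra h
      exact hsm ((comap_maximal m Ch hmax).le (show algebraMap T Ch s ∈ maximalIdeal Ch from h))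
    obtain ⟨v, hv⟩ := hu.exists_right_inv
    have hs0 : algebraMap T E s = 0 := RingHom.mem_ker.1 (hker.ge hsI)
    haveI : Subsingleton (E ⊗[T] Ch) := subsingleton_of_zero_eq_one (by
      show (0 : E ⊗[T] Ch) = (1 : E) ⊗ₜ[T] (1 : Ch)
      rw [← hv, ← Algebra.smul_def, ← smul_tmul, ← Algebra.algebraMap_eq_smul_one, hs0, zero_tmul])
    infer_instance
  by_cases heq : I = m
  · exact isReduced_tensor_of_ker_eq m Ch hmax hdense E (hker.trans heq)
  obtain ⟨x, hxm, hxI⟩ := SetLike.exists_of_lt (lt_of_le_of_ne hIm heq)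
  let E' := integralClosure T (FractionRing E)
  haveI : Module.Finite T E' := finite_normalization T E (hker ▸ hI)
  haveI : IsNoetherianRing E' := IsNoetherianRing.of_finite T E'
  haveI : IsIntegrallyClosed E' := isIntegrallyClosed_normalization T E
  let j : E →ₐ[T] E' := (IsScalarTower.toAlgHom T E (FractionRing E)).codRestrict E' fun e =>
    (Algebra.IsIntegral.isIntegral (R := T) e).map (IsScalarTower.toAlgHom T E (FractionRing E))
  have hj : Function.Injective j := fun a b h =>
    IsFractionRing.injective E (FractionRing E) (congrArg Subtype.val h)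
  suffices IsReduced (E' ⊗[T] Ch) by
    exact isReduced_of_injective (Algebra.TensorProduct.map j (AlgHom.id T Ch))
      (Module.Flat.rTensor_preserves_injective_linearMap (M := Ch) j.toLinearMap hj)
  obtain ⟨hN, hcomap⟩ := tensor_props m Ch E' hmax
  haveI := hN
  refine isReduced_of_forall_maximal (R := E') (C := E' ⊗[T] Ch) fun N hNmax => ⟨algebraMap T E' x, ?_, ?_, ?_⟩
  · intro h
    apply hxI
    rw [← hker, RingHom.mem_ker]
    exact hj (by rw [map_zero, j.commutes]; exact h)
  · rw [← IsScalarTower.algebraMap_apply T E' (E' ⊗[T] Ch)]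
    exact (hcomap N hNmax).ge hxm
  intro P hP
  haveI := (AssociatedPrimes.mem_iff.1 hP).isPrime
  have hx0 : algebraMap T E' x ≠ 0 := fun h => hxI (by
    rw [← hker, RingHom.mem_ker]
    exact hj (by rw [map_zero, j.commutes]; exact h))
  haveI := isDVR_of_mem_ass hx0 P hP
  refine ⟨hasParam_of_isDVR P hx0, ?_⟩
  have hle : I ≤ RingHom.ker (algebraMap T (E' ⧸ P)) := fun a ha => by
    rw [RingHom.mem_ker, IsScalarTower.algebraMap_apply T E' (E' ⧸ P),
      show algebraMap T E' a = 0 by rw [← j.commutes, RingHom.mem_ker.1 (hker.ge ha), map_zero], map_zero]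
  have hxP : x ∈ RingHom.ker (algebraMap T (E' ⧸ P)) := by
    rw [RingHom.mem_ker, IsScalarTower.algebraMap_apply T E' (E' ⧸ P)]
    refine Ideal.Quotient.eq_zero_iff_mem.2 ((IsAssociatedPrime.annihilator_le (AssociatedPrimes.mem_iff.1 hP))
      (Submodule.mem_annihilator.2 fun y _ => ?_))
    obtain ⟨y, rfl⟩ := Ideal.Quotient.mk_surjective y
    show Ideal.Quotient.mk _ (algebraMap T E' x * y) = 0
    exact Ideal.Quotient.eq_zero_iff_mem.2 (Ideal.mem_span_singleton.2 ⟨y, rfl⟩)
  haveI : Module.Finite T (E' ⧸ P) := Module.Finite.of_surjective ((Ideal.Quotient.mkₐ T P).toLinearMap)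
    (Ideal.Quotient.mkₐ_surjective T P)
  haveI := ih _ (lt_of_le_of_ne hle fun h => hxI (h ▸ hxP))
    (N12Aux.isNagata_of_surjective (Ideal.Quotient.factor hle) (Ideal.Quotient.factor_surjective hle) hI)
    (E' ⧸ P) rfl
  obtain ⟨f, hf⟩ := exists_injective_quot (T := T) Ch E' P
  exact isReduced_of_injective f hf

end Groth.Agent.CAlgOdd.NagataFT
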